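import Cfsg.Agent.Classification.IdL3.SetupTwo
import Cfsg.Agent.Classification.PSLThreeRecog

/-!
From the relations between the six root groups of `IdL3.Setup` to `PSL₃(F)`.
-/

set_option autoImplicit false
set_option linter.unusedSimpArgs false

namespace Cfsg.Agent.Classification.IdL3.ToLocal

open Matrix
open scoped MatrixGroups
open scoped commutatorElement
open Cfsg.Agent.Classification.IdL3.Mat
open Cfsg.Agent.Classification.IdL3.Setup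
open Cfsg.Agent.Classification.IdL3.SetupTwo
open Cfsg.Agent.Lib.SL2Hom
open Cfsg.Agent.Classification.PSLThreeRecog

variable {F : Type*} [Field F] {G : Type*} [Group G] {φ : GL (Fin 2) F →* G} {n : G}

/-- `SL₂(F) → GL₂(F)`. -/
def inc (F : Type*) [Field F] : SpecialLinearGroup (Fin 2) F →* GL (Fin 2) F := SpecialLinearGroup.toGL

theorem inc_val (g : SpecialLinearGroup (Fin 2) F) (i j : Fin 2) : (inc F g).1 i j = g.1 i j := rfl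

theorem inc_up (a : F) : inc F (up a) = U a := by
  apply ext4 <;> rfl

theorem inc_lo (a : F) : inc F (lo a) = L a := by
  apply ext4 <;> rfl

theorem inc_dg (s : F) (hs : s ≠ 0) : inc F (dg s hs) = T (Units.mk0 s hs) (Units.mk0 s hs)⁻¹ := by
  apply ext4 <;> (rw [inc_val]; simp [dg])

theorem inc_neg : inc F (-1) = T (-1) (-1) := by
  apply ext4 <;> (rw [inc_val]; simp)

/-- commutators of `X` and `Y` lie in `Z`. -/
def Cq (X Y Z : Subgroup G) : Prop := ∀ x ∈ X, ∀ y ∈ Y, x * y * x⁻¹ * y⁻¹ ∈ Z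

theorem Cq.symm {X Y Z : Subgroup G} (h : Cq X Y Z) : Cq Y X Z := by
  intro x hx y hy
  have h1 := Z.inv_mem (h y hy x hx)
  have h2 : (y * x * y⁻¹ * x⁻¹)⁻¹ = x * y * x⁻¹ * y⁻¹ := by group
  rwa [h2] at h1

theorem Cq.cj {X Y Z : Subgroup G} (h : Cq X Y Z) (g : G) : Cq (cj g X) (cj g Y) (cj g Z) := by
  intro x hx y hy
  rw [mem_cj] at hx hy ⊢
  have h1 := h _ hx _ hy
  have h2 : g⁻¹ * x * g * (g⁻¹ * y * g) * (g⁻¹ * x * g)⁻¹ * (g⁻¹ * y * g)⁻¹ =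
      g⁻¹ * (x * y * x⁻¹ * y⁻¹) * g := by group
  rwa [h2] at h1

/-- The relations. -/
structure Rel (φ : GL (Fin 2) F →* G) (n : G) : Prop where
  hH : Hyp φ n
  hb : Cm (A φ) (B (cφ n φ))
  hb' : Cm (A φ) (B (cφ n⁻¹ φ))
  hq : Cq (B (cφ n φ)) (B (cφ n⁻¹ φ)) (A φ)

namespace Rel

variable (R : Rel φ n)
include R

theorem b12 : Cm (A (cφ n φ)) (B (cφ n⁻¹ φ)) := by
  have := Cm.cj R.hb n
  rwa [cj_n_A, cj_n_B1 R.hH] at this

theorem b20 : Cm (A (cφ n⁻¹ φ)) (B φ) := by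
  have := Cm.cj R.b12 n
  rwa [cj_n_A1 R.hH, cj_n_B2] at this

theorem b10 : Cm (A (cφ n φ)) (B φ) := by
  have := Cm.cj R.hb' n
  rwa [cj_n_A, cj_n_B2] at this

theorem b21 : Cm (A (cφ n⁻¹ φ)) (B (cφ n φ)) := by
  have := Cm.cj R.b10 n
  rwa [cj_n_A1 R.hH, cj_n_B] at this

/-- `[B₂, B₀] ⊆ A₁`. -/
theorem q20 : Cq (B (cφ n⁻¹ φ)) (B φ) (A (cφ n φ)) := by
  have := Cq.cj R.hq n
  rwa [cj_n_B1 R.hH, cj_n_B2, cj_n_A] at this

/-- `[B₀, B₁] ⊆ A₂`. -/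
theorem q01 : Cq (B φ) (B (cφ n φ)) (A (cφ n⁻¹ φ)) := by
  have := Cq.cj R.q20 n
  rwa [cj_n_B2, cj_n_B, cj_n_A1 R.hH] at this

/-- `[A₂, A₁] ⊆ B₀`. -/
theorem p21 : Cq (A (cφ n⁻¹ φ)) (A (cφ n φ)) (B φ) := by
  have := Cq.cj R.hq (wv φ)
  rwa [cj_w_B1 R.hH, cj_w_B2 R.hH, cj_wv_A] at this

/-- `[A₀, A₂] ⊆ B₁`. -/
theorem p02 : Cq (A φ) (A (cφ n⁻¹ φ)) (B (cφ n φ)) := by
  have := Cq.cj R.p21 n
  rwa [cj_n_A2, cj_n_A1 R.hH, cj_n_B] at this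

/-- `[A₁, A₀] ⊆ B₂`. -/
theorem p10 : Cq (A (cφ n φ)) (A φ) (B (cφ n⁻¹ φ)) := by
  have := Cq.cj R.p02 n
  rwa [cj_n_A, cj_n_A2, cj_n_B1 R.hH] at this

end Rel

theorem A_sq_eq_one (hH : Hyp φ n) {x : G} (hx : x ∈ A φ) (h : x⁻¹ = x) : x = 1 := by
  obtain ⟨c, rfl⟩ := mem_A.mp hx
  rw [← map_inv, U_inv] at h
  have h1 := hH.U_inj h
  have h2 : 2 * c = 0 := by linear_combination -h1
  rw [(mul_eq_zero.mp h2).resolve_left hH.two, U_zero, map_one]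

theorem B_sq_eq_one (hH : Hyp φ n) {x : G} (hx : x ∈ B φ) (h : x⁻¹ = x) : x = 1 := by
  rw [← A_fl] at hx
  exact A_sq_eq_one hH.flip hx h

/-- `tt φ` inverts the root groups with index `≠ 0` -/
theorem tt_inv_A1 (hH : Hyp φ n) {x : G} (hx : x ∈ A (cφ n φ)) (h : tt φ * x = x * tt φ) : x = 1 := by
  have h1 := Pair.inverts_A hH.rot.pair.symm hx
  have h2 : n⁻¹ * tt (cφ n φ) * n = tt φ := by rw [tt_cφ]; group
  rw [h2, h, mul_inv_cancel_right] at h1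
  exact A_sq_eq_one hH.rot hx h1.symm

theorem tt_inv_B1 (hH : Hyp φ n) {x : G} (hx : x ∈ B (cφ n φ)) (h : tt φ * x = x * tt φ) : x = 1 := by
  have h1 := Pair.inverts_B hH.rot.pair.symm hx
  have h2 : n⁻¹ * tt (cφ n φ) * n = tt φ := by rw [tt_cφ]; group
  rw [h2, h, mul_inv_cancel_right] at h1
  exact B_sq_eq_one hH.rot hx h1.symm

theorem tt_inv_A2 (hH : Hyp φ n) {x : G} (hx : x ∈ A (cφ n⁻¹ φ)) (h : tt φ * x = x * tt φ) : x = 1 :=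
  tt_inv_A1 hH.inv hx h

theorem tt_inv_B2 (hH : Hyp φ n) {x : G} (hx : x ∈ B (cφ n⁻¹ φ)) (h : tt φ * x = x * tt φ) : x = 1 :=
  tt_inv_B1 hH.inv hx h

theorem tt1_inv_A0 (hH : Hyp φ n) {x : G} (hx : x ∈ A φ) (h : tt (cφ n φ) * x = x * tt (cφ n φ)) : x = 1 := by
  have h1 := Pair.inverts_A hH.pair hx
  rw [tt_cφ] at h
  rw [h, mul_inv_cancel_right] at h1
  exact A_sq_eq_one hH hx h1.symm

theorem tt1_inv_B0 (hH : Hyp φ n) {x : G} (hx : x ∈ B φ) (h : tt (cφ n φ) * x = x * tt (cφ n φ)) : x = 1 := by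
  have h1 := Pair.inverts_B hH.pair hx
  rw [tt_cφ] at h
  rw [h, mul_inv_cancel_right] at h1
  exact B_sq_eq_one hH hx h1.symm

theorem tt1_inv_A2 (hH : Hyp φ n) {x : G} (hx : x ∈ A (cφ n⁻¹ φ)) (h : tt (cφ n φ) * x = x * tt (cφ n φ)) :
    x = 1 := by
  have h1 := Pair.inverts_A hH.rot'.pair.symm hx
  have h2 : n⁻¹ * tt (cφ n⁻¹ φ) * n = tt (cφ n φ) := by
    rw [tt_cφ, tt_cφ, inv_inv]; exact hH.n_t2
  rw [h2, h, mul_inv_cancel_right] at h1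
  exact A_sq_eq_one hH.rot' hx h1.symm

theorem tt1_inv_B2 (hH : Hyp φ n) {x : G} (hx : x ∈ B (cφ n⁻¹ φ)) (h : tt (cφ n φ) * x = x * tt (cφ n φ)) :
    x = 1 := by
  have h1 := Pair.inverts_B hH.rot'.pair.symm hx
  have h2 : n⁻¹ * tt (cφ n⁻¹ φ) * n = tt (cφ n φ) := by
    rw [tt_cφ, tt_cφ, inv_inv]; exact hH.n_t2
  rw [h2, h, mul_inv_cancel_right] at h1
  exact B_sq_eq_one hH.rot' hx h1.symm

theorem B_comm {x y : G} (hx : x ∈ B φ) (hy : y ∈ B φ) : x * y = y * x := by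
  rw [← A_fl] at hx hy
  exact A_comm hx hy

/-- the copy of `SL₂(F)` -/
def pi2 (φ : GL (Fin 2) F →* G) : SpecialLinearGroup (Fin 2) F →* G := φ.comp (inc F)

theorem pi2_up (φ : GL (Fin 2) F →* G) (a : F) : pi2 φ (up a) = φ (U a) := by
  rw [← inc_up]; rfl
theorem pi2_lo (φ : GL (Fin 2) F →* G) (a : F) : pi2 φ (lo a) = φ (L a) := by
  rw [← inc_lo]; rfl
theorem pi2_dg (φ : GL (Fin 2) F →* G) (s : F) (hs : s ≠ 0) :
    pi2 φ (dg s hs) = φ (T (Units.mk0 s hs) (Units.mk0 s hs)⁻¹) := by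
  rw [← inc_dg]; rfl
theorem pi2_neg (φ : GL (Fin 2) F →* G) : pi2 φ (-1) = tt φ := by
  rw [tt, ← inc_neg]; rfl

theorem up_mem (φ : GL (Fin 2) F →* G) (a : F) : pi2 φ (up a) ∈ A φ := by
  rw [pi2_up]; exact mem_A.mpr ⟨a, rfl⟩
theorem lo_mem (φ : GL (Fin 2) F →* G) (a : F) : pi2 φ (lo a) ∈ B φ := by
  rw [pi2_lo]; exact mem_B.mpr ⟨a, rfl⟩

theorem exists_up {x : G} (hx : x ∈ A φ) : ∃ c, x = pi2 φ (up c) := by
  obtain ⟨c, rfl⟩ := mem_A.mp hx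
  exact ⟨c, (pi2_up _ _).symm⟩
theorem exists_lo {x : G} (hx : x ∈ B φ) : ∃ c, x = pi2 φ (lo c) := by
  obtain ⟨c, rfl⟩ := mem_B.mp hx
  exact ⟨c, (pi2_lo _ _).symm⟩

theorem toLocal (R : Rel φ n) : Local (pi2 φ) (pi2 (cφ n φ)) (B (cφ n⁻¹ φ)) (A (cφ n⁻¹ φ)) where
  inj := by
    intro a h
    rw [pi2_up] at h
    exact R.hH.rot.U_inj (by rw [h, U_zero, map_one])
  abU := fun x hx y hy => B_comm hx hy
  abV := fun x hx y hy => A_comm hx hy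
  k12_U := fun a u hu => R.hb' _ (up_mem _ _) _ hu
  kU_23 := fun u hu a => (R.b12 _ (up_mem _ _) _ hu).symm
  k23_21 := fun a b => R.b10 _ (up_mem _ _) _ (lo_mem _ _)
  k21_V := fun a v hv => (R.b20 _ hv _ (lo_mem _ _)).symm
  kV_32 := fun v hv a => R.b21 _ hv _ (lo_mem _ _)
  k32_12 := fun a b => (R.hb _ (up_mem _ _) _ (lo_mem _ _)).symm
  m12_23 := fun a b => R.p10.symm _ (up_mem _ _) _ (up_mem _ _)
  mU_32 := fun u hu b => exists_up (R.hq.symm _ hu _ (lo_mem _ _))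
  m21_U := fun u hu a => exists_up (R.q20.symm _ (lo_mem _ _) _ hu)
  m32_21 := fun a b => R.q01.symm _ (lo_mem _ _) _ (lo_mem _ _)
  mV_12 := fun v hv b => exists_lo (R.p02.symm _ hv _ (up_mem _ _))
  m23_V := fun v hv a => exists_lo (R.p21.symm _ (up_mem _ _) _ hv)
  f1U := fun x hx h => tt_inv_B2 R.hH hx (by rw [← pi2_neg]; exact h _)
  f1V := fun x hx h => tt_inv_A2 R.hH hx (by rw [← pi2_neg]; exact h _)
  f1u := fun a h => tt_inv_A1 R.hH (up_mem _ _) (by rw [← pi2_neg φ]; exact h _)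
  f1l := fun a h => tt_inv_B1 R.hH (lo_mem _ _) (by rw [← pi2_neg φ]; exact h _)
  f2U := fun x hx h => tt1_inv_B2 R.hH hx (by rw [← pi2_neg]; exact h _)
  f2V := fun x hx h => tt1_inv_A2 R.hH hx (by rw [← pi2_neg]; exact h _)
  f2u := fun a h => tt1_inv_A0 R.hH (up_mem _ _) (by rw [← pi2_neg (cφ n φ)]; exact h _)
  f2l := fun a h => tt1_inv_B0 R.hH (lo_mem _ _) (by rw [← pi2_neg (cφ n φ)]; exact h _)
  torus := by
    intro s hs
    have h1 : pi2 φ (dg s hs) ∈ Ht (cφ n φ) := by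
      rw [R.hH.Ht_rot, pi2_dg]
      exact mem_Ht.mpr ⟨_, _, rfl⟩
    obtain ⟨a, b, hab⟩ := mem_Ht.mp h1
    refine ⟨a / b, div_ne_zero a.ne_zero b.ne_zero, fun c => ⟨?_, ?_⟩⟩
    · rw [← hab, pi2_up, pi2_up, ← mul_inv_eq_iff_eq_mul, ← map_inv, ← map_mul, ← map_mul, T_U]
      congr 2
      rw [Units.val_inv_eq_inv_val]; ring
    · rw [← hab, pi2_lo, pi2_lo, ← mul_inv_eq_iff_eq_mul, ← map_inv, ← map_mul, ← map_mul, T_L]
      congr 2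
      rw [Units.val_inv_eq_inv_val, inv_div]; ring

/-- the root groups `A φ`, `B φ` do not commute. -/
theorem exists_ne (hH : Hyp φ n) : ∃ a b : G, a * b ≠ b * a := by
  refine ⟨φ (U 1), φ (L 1), fun h => ?_⟩
  have h1 := hH.comm_lift h
  have h2 := congrArg (fun k : GL (Fin 2) F => k.1 0 0) h1
  simp [mul_val] at h2

theorem psl3_of_rel [Finite G] [IsSimpleGroup G] [Finite F] (hH : Hyp φ n) (hb : Rb φ n)
    (hb' : Rb φ n⁻¹)
    (hcom : ∀ x ∈ B (cφ n φ), ∀ y ∈ B (cφ n⁻¹ φ), x * y * x⁻¹ * y⁻¹ ∈ A φ)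
    (hcard : Nat.card G ≤ Nat.card (Matrix.SpecialLinearGroup (Fin 3) F)) :
    Nonempty (G ≃* Matrix.ProjectiveSpecialLinearGroup (Fin 3) F) :=
  nonempty_psl_three (exists_ne hH) (toLocal ⟨hH, hb, hb', hcom⟩) hcard

end Cfsg.Agent.Classification.IdL3.ToLocal
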