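import Cfsg.Agent.Classification.IdL3.LocalFive
import Cfsg.Agent.Classification.IdL3.ToLocal
import Cfsg.Agent.S0242

/-!
Simple groups with one class of involutions, involution centralizer `GL (Fin 2) F / Z` and the order
of `PSL (Fin 3) F`.
-/

set_option autoImplicit false
set_option linter.unusedSimpArgs false

namespace Cfsg.Agent.Classification.IdL3.Final

open Matrix
open scoped MatrixGroups
open Cfsg.Agent.Classification.IdL3.Mat
open Cfsg.Agent.Classification.IdL3.MatTwo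
open Cfsg.Agent.Classification.IdL3.MatThree
open Cfsg.Agent.Classification.IdL3.Setup
open Cfsg.Agent.Classification.IdL3.SetupTwo

variable {F : Type*} [Field F] {G : Type*} [Group G] {φ : GL (Fin 2) F →* G}

/-- elements commuting in `G` lift to commuting elements. -/
theorem comm_lift (hc : ∀ g, φ g = 1 → g ∈ Subgroup.center (GL (Fin 2) F))
    (hko : Odd (Nat.card φ.ker)) {g h : GL (Fin 2) F} (e : φ g * φ h = φ h * φ g) :
    g * h = h * g := by
  have hk : φ (g * h * g⁻¹ * h⁻¹) = 1 := by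
    rw [map_mul, map_mul, map_mul, map_inv, map_inv, e]; group
  obtain ⟨a, ha⟩ := scalar_of_center (hc _ hk)
  have hdet : (g * h * g⁻¹ * h⁻¹).1.det = 1 := by
    have h1 : ∀ x : GL (Fin 2) F, x.1.det * (x⁻¹).1.det = 1 := by
      intro x
      rw [← Matrix.det_mul, ← Units.val_mul, mul_inv_cancel, Units.val_one, Matrix.det_one]
    rw [Units.val_mul, Units.val_mul, Units.val_mul, Matrix.det_mul, Matrix.det_mul,
      Matrix.det_mul]
    linear_combination (h.1.det * (h⁻¹).1.det) * h1 g + h1 h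
  rw [ha, det_eq] at hdet
  simp only [T_00, T_01, T_10, T_11, mul_zero, sub_zero] at hdet
  have ha2 : a * a = 1 := Units.ext hdet
  have hker : T a a ∈ φ.ker := by rw [← ha]; exact hk
  obtain ⟨m, hm⟩ := hko
  have hpow : (T a a) ^ Nat.card φ.ker = 1 := by
    have h1 : (⟨T a a, hker⟩ : φ.ker) ^ Nat.card φ.ker = 1 := pow_card_eq_one'
    exact congrArg Subtype.val h1
  have hsq : T a a * T a a = 1 := by rw [T_mul, ha2, T_one]
  rw [hm, pow_succ, pow_mul, pow_two, hsq, one_pow, one_mul] at hpow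
  rw [hpow] at ha
  have h3 : g * h = g * h * g⁻¹ * h⁻¹ * (h * g) := by group
  rw [h3, ha, one_mul]

/-- involutions lift to involutions. -/
theorem inv_lift (hko : Odd (Nat.card φ.ker)) {x : GL (Fin 2) F} (hx : φ x * φ x = 1) :
    ∃ y : GL (Fin 2) F, y * y = 1 ∧ φ y = φ x := by
  have hker : x * x ∈ φ.ker := by rw [MonoidHom.mem_ker, map_mul, hx]
  have h1 : (x * x) ^ Nat.card φ.ker = 1 := by
    have h1 : (⟨x * x, hker⟩ : φ.ker) ^ Nat.card φ.ker = 1 := pow_card_eq_one'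
    exact congrArg Subtype.val h1
  refine ⟨x ^ Nat.card φ.ker, ?_, ?_⟩
  · rw [← pow_two, ← pow_mul, mul_comm, pow_mul, pow_two]; exact h1
  · obtain ⟨m, hm⟩ := hko
    rw [map_pow, hm, pow_succ, pow_mul, pow_two, hx, one_pow, one_mul]

theorem neg_one_ne (h2 : (2 : F) ≠ 0) : (-1 : Fˣ) ≠ 1 := by
  intro h
  have h1 := congrArg (fun u : Fˣ => (u : F)) h
  simp only [Units.val_neg, Units.val_one] at h1
  apply h2
  linear_combination -h1

theorem T_ne_one {a b : Fˣ} (h : a ≠ 1 ∨ b ≠ 1) : T a b ≠ 1 := by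
  intro e
  rcases h with h | h
  · apply h
    have := congrArg (fun k : GL (Fin 2) F => k.1 0 0) e
    simp only [T_00, one_00] at this
    exact Units.ext this
  · apply h
    have := congrArg (fun k : GL (Fin 2) F => k.1 1 1) e
    simp only [T_11, one_11] at this
    exact Units.ext this

theorem φ_ne_one (hko : Odd (Nat.card φ.ker)) {y : GL (Fin 2) F} (hy : y * y = 1) (hy1 : y ≠ 1) :
    φ y ≠ 1 := by
  intro h
  have hker : y ∈ φ.ker := h
  obtain ⟨m, hm⟩ := hko
  have hpow : y ^ Nat.card φ.ker = 1 := by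
    have h1 : (⟨y, hker⟩ : φ.ker) ^ Nat.card φ.ker = 1 := pow_card_eq_one'
    exact congrArg Subtype.val h1
  rw [hm, pow_succ, pow_mul, pow_two, hy, one_pow, one_mul] at hpow
  exact hy1 hpow

/-- `T (-1) (-1)` is mapped to the central involution. -/
theorem tt_eq (h2 : (2 : F) ≠ 0) (hc : ∀ g, φ g = 1 → g ∈ Subgroup.center (GL (Fin 2) F))
    (hko : Odd (Nat.card φ.ker)) {t : G} (htt : t * t = 1) (ht1 : t ≠ 1)
    (ht : ∃ x, φ x = t) (hcent : ∀ x, t * φ x = φ x * t) : tt φ = t := by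
  obtain ⟨x, rfl⟩ := ht
  obtain ⟨y, hy, hyx⟩ := inv_lift hko htt
  rw [← hyx] at ht1 hcent ⊢
  have hcy : y ∈ Subgroup.center (GL (Fin 2) F) := by
    rw [Subgroup.mem_center_iff]
    intro g
    exact (comm_lift hc hko (hcent g)).symm
  obtain ⟨a, rfl⟩ := scalar_of_center hcy
  have h5 := congrArg (fun k : GL (Fin 2) F => k.1 0 0) hy
  simp only [mul_val, T_00, T_01, T_10, one_00, mul_zero, add_zero] at h5
  rcases mul_self_eq_one_iff.mp h5 with h6 | h6
  · exfalso
    have : a = 1 := Units.ext h6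
    rw [this, T_one, map_one] at ht1
    exact ht1 rfl
  · have : a = -1 := Units.ext h6
    rw [this, tt]

/-- Existence of the rotating element `n`. -/
theorem exists_hyp (h2 : (2 : F) ≠ 0) (hc : ∀ g, φ g = 1 → g ∈ Subgroup.center (GL (Fin 2) F))
    (hko : Odd (Nat.card φ.ker)) (hcent : ∀ g : G, g * tt φ = tt φ * g → ∃ x, φ x = g)
    (hinv : ∃ g, g * tt φ * g⁻¹ = φ (T 1 (-1))) : ∃ n : G, Hyp φ n := by
  obtain ⟨g, hg⟩ := hinv
  have hss : φ (T 1 (-1)) * φ (T 1 (-1)) = 1 := by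
    rw [← map_mul, T_mul]; simp [T_one]
  have hst : φ (T 1 (-1)) * tt φ = tt φ * φ (T 1 (-1)) := tt_comm _
  -- `u = g⁻¹ t g` commutes with `t`
  have huu : (g⁻¹ * tt φ * g) * (g⁻¹ * tt φ * g) = 1 := by
    have : (g⁻¹ * tt φ * g) * (g⁻¹ * tt φ * g) = g⁻¹ * (tt φ * tt φ) * g := by group
    rw [this, tt_sq]; group
  have hut : (g⁻¹ * tt φ * g) * tt φ = tt φ * (g⁻¹ * tt φ * g) := by
    have e1 : (g⁻¹ * tt φ * g) * tt φ = g⁻¹ * (tt φ * (g * tt φ * g⁻¹)) * g := by group
    rw [e1, hg, ← hst, ← hg]; group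
  obtain ⟨x, hx⟩ := hcent _ hut
  obtain ⟨y, hy, hyx⟩ := inv_lift (x := x) hko (by rw [hx]; exact huu)
  rw [hx] at hyx
  have ht1 : tt φ ≠ 1 := φ_ne_one hko (by rw [T_mul]; simp [T_one])
    (T_ne_one (Or.inl (neg_one_ne h2)))
  obtain ⟨z, hz⟩ := conj_of_sq h2 hy (by
      rintro rfl
      rw [map_one] at hyx
      apply ht1
      have : tt φ = g * (g⁻¹ * tt φ * g) * g⁻¹ := by group
      rw [this, ← hyx]; group) (by
      rintro rfl
      have h3 : g⁻¹ * tt φ * g = tt φ := hyx.symm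
      have h4 : tt φ = φ (T 1 (-1)) := by
        have h5 : g * (g⁻¹ * tt φ * g) * g⁻¹ = g * tt φ * g⁻¹ := by rw [h3]
        have h6 : g * (g⁻¹ * tt φ * g) * g⁻¹ = tt φ := by group
        rw [h6, hg] at h5
        exact h5
      have h7 : φ (T (-1) 1) = 1 := by
        have h8 : φ (T (-1) (-1)) * φ (T 1 (-1)) = φ (T (-1) 1) := by
          rw [← map_mul, T_mul]; simp
        rw [← h8]
        change tt φ * φ (T 1 (-1)) = 1
        rw [h4, hss]
      exact φ_ne_one hko (by rw [T_mul]; simp [T_one])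
        (T_ne_one (Or.inl (neg_one_ne h2))) h7)
  -- `g' = g c⁻¹` exchanges `t` and `s`
  have h3 : φ z * (g⁻¹ * tt φ * g) * (φ z)⁻¹ = φ (T 1 (-1)) := by
    rw [← hyx, ← map_inv, ← map_mul, ← map_mul, hz]
  have hzt := tt_comm (φ := φ) z
  set g' := g * (φ z)⁻¹ with hg'
  have h4 : g' * tt φ * g'⁻¹ = φ (T 1 (-1)) := by
    have h5 : (φ z)⁻¹ * tt φ * φ z = tt φ := by
      rw [mul_assoc, ← hzt]; group
    have h6 : g' * tt φ * g'⁻¹ = g * ((φ z)⁻¹ * tt φ * φ z) * g⁻¹ := by rw [hg']; group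
    rw [h6, h5, hg]
  have h5 : g'⁻¹ * tt φ * g' = φ (T 1 (-1)) := by
    rw [← h3, hg']; group
  have hwt := wv_tt (φ := φ)
  refine ⟨g' * wv φ, ?_⟩
  refine ⟨h2, hc, hko, hcent, Or.inl ⟨?_, ?_⟩⟩
  · have h6 : g' * wv φ * tt φ * (g' * wv φ)⁻¹ = g' * (wv φ * tt φ * (wv φ)⁻¹) * g'⁻¹ := by group
    rw [h6, hwt, h4]
  · have h6 : (g' * wv φ)⁻¹ * tt φ * (g' * wv φ) = (wv φ)⁻¹ * (g'⁻¹ * tt φ * g') * wv φ := by group
    rw [h6, h5, wv_inv, wv, ← map_mul, ← map_mul]
    congr 1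
    have h7 := W_T (1 : Fˣ) (-1)
    rwa [W_inv] at h7

/-- the torus as a homomorphism. -/
def Thom (F : Type*) [Field F] : Fˣ × Fˣ →* GL (Fin 2) F where
  toFun x := T x.1 x.2
  map_one' := T_one
  map_mul' x y := (T_mul x.1 x.2 y.1 y.2).symm

theorem card_Ht [Finite F] (hc : ∀ g, φ g = 1 → g ∈ Subgroup.center (GL (Fin 2) F)) :
    Nat.card φ.ker * Nat.card (Ht φ) = (Nat.card F - 1) * (Nat.card F - 1) := by
  set ψ := φ.comp (Thom F) with hψ
  have h1 := Subgroup.card_mul_index ψ.ker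
  rw [Subgroup.index_ker, Nat.card_prod, Nat.card_units] at h1
  have h2 : Nat.card ψ.ker = Nat.card φ.ker := by
    refine Nat.card_congr (Equiv.ofBijective (fun x : ψ.ker => (⟨Thom F x, x.2⟩ : φ.ker)) ⟨?_, ?_⟩)
    · rintro ⟨⟨a, b⟩, h⟩ ⟨⟨a', b'⟩, h'⟩ e
      have e1 : T a b = T a' b' := congrArg Subtype.val e
      have e2 := congrArg (fun k : GL (Fin 2) F => k.1 0 0) e1
      have e3 := congrArg (fun k : GL (Fin 2) F => k.1 1 1) e1
      simp only [T_00, T_11] at e2 e3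
      have e4 : a = a' := Units.ext e2
      have e5 : b = b' := Units.ext e3
      subst e4; subst e5; rfl
    · rintro ⟨g, hg⟩
      obtain ⟨a, rfl⟩ := scalar_of_center (hc g hg)
      exact ⟨⟨(a, a), hg⟩, rfl⟩
  have h3 : ψ.range = Ht φ := by
    ext x
    rw [mem_Ht]
    constructor
    · rintro ⟨⟨a, b⟩, rfl⟩; exact ⟨a, b, rfl⟩
    · rintro ⟨a, b, rfl⟩; exact ⟨(a, b), rfl⟩
  rw [h2, h3] at h1
  exact h1

theorem card_range [Finite F] :
    Nat.card φ.ker * Nat.card φ.range =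
      (Nat.card F ^ 2 - 1) * (Nat.card F ^ 2 - Nat.card F) := by
  have := Fintype.ofFinite F
  have h1 := Subgroup.card_mul_index φ.ker
  rw [Subgroup.index_ker, Matrix.card_GL_field, Fin.prod_univ_two] at h1
  rw [h1, Nat.card_eq_fintype_card]
  simp

theorem card_sl_three [Finite F] :
    (Nat.card F - 1) * Nat.card (SpecialLinearGroup (Fin 3) F) =
      (Nat.card F ^ 3 - 1) * (Nat.card F ^ 3 - Nat.card F) * (Nat.card F ^ 3 - Nat.card F ^ 2) := by
  have := Fintype.ofFinite F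
  have h1 := S0242.result (F := F) (q := Nat.card F) (by rw [Nat.card_eq_fintype_card]) 3
    (by norm_num)
  rw [Fin.prod_univ_three] at h1
  rw [h1]
  simp

/-- The identification of `PSL₃`. -/
theorem psl3_of_index [Finite G] [IsSimpleGroup G] [Finite F] (h2 : (2 : F) ≠ 0)
    (Z : Subgroup (GL (Fin 2) F)) [Z.Normal] (hZc : Z ≤ Subgroup.center (GL (Fin 2) F))
    (hZo : Odd (Nat.card Z)) {t : G} (ht : orderOf t = 2)
    (e : Subgroup.centralizer ({t} : Set G) ≃* (GL (Fin 2) F ⧸ Z))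
    (hinv : ∀ s : G, orderOf s = 2 → ∃ g, g * t * g⁻¹ = s)
    (hidx : (Subgroup.centralizer ({t} : Set G)).index =
      Nat.card F ^ 2 * (Nat.card F ^ 2 + Nat.card F + 1)) :
    Nonempty (G ≃* ProjectiveSpecialLinearGroup (Fin 3) F) := by
  set C := Subgroup.centralizer ({t} : Set G) with hC
  set φ : GL (Fin 2) F →* G :=
    C.subtype.comp (e.symm.toMonoidHom.comp (QuotientGroup.mk' Z)) with hφ
  have hφa : ∀ x, φ x = (e.symm (QuotientGroup.mk' Z x) : C) := fun x => rfl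
  have hker : φ.ker = Z := by
    ext x
    rw [MonoidHom.mem_ker, hφa]
    constructor
    · intro h
      have h1 : e.symm (QuotientGroup.mk' Z x) = 1 := Subtype.ext h
      rw [map_eq_one_iff e.symm e.symm.injective] at h1
      exact (QuotientGroup.eq_one_iff x).mp h1
    · intro h
      have h1 : QuotientGroup.mk' Z x = 1 := (QuotientGroup.eq_one_iff x).mpr h
      rw [h1, map_one]; rfl
  have hrange : φ.range = C := by
    ext g
    constructor
    · rintro ⟨x, rfl⟩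
      exact (e.symm (QuotientGroup.mk' Z x)).2
    · intro hg
      obtain ⟨x, hx⟩ := QuotientGroup.mk'_surjective Z (e ⟨g, hg⟩)
      refine ⟨x, ?_⟩
      rw [hφa, hx, e.symm_apply_apply]
  have hkc : ∀ g, φ g = 1 → g ∈ Subgroup.center (GL (Fin 2) F) := by
    intro g hg
    apply hZc
    rw [← hker]; exact hg
  have hko : Odd (Nat.card φ.ker) := by rw [hker]; exact hZo
  have htt : t * t = 1 := by rw [← pow_two, ← ht, pow_orderOf_eq_one]
  have ht1 : t ≠ 1 := by rintro rfl; rw [orderOf_one] at ht; exact absurd ht (by decide)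
  have htC : t ∈ C := Subgroup.mem_centralizer_singleton_iff.mpr rfl
  have hcomm : ∀ x, t * φ x = φ x * t := by
    intro x
    have h1 : φ x ∈ C := by rw [← hrange]; exact ⟨x, rfl⟩
    exact (Subgroup.mem_centralizer_singleton_iff.mp h1).symm
  have hteq : tt φ = t := tt_eq h2 hkc hko htt ht1 (by
    rw [← hrange] at htC; exact htC) hcomm
  have hcent : ∀ g : G, g * tt φ = tt φ * g → ∃ x, φ x = g := by
    intro g hg
    rw [hteq] at hg
    have h1 : g ∈ C := Subgroup.mem_centralizer_singleton_iff.mpr hg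
    rw [← hrange] at h1
    exact h1
  obtain ⟨n, hH⟩ := exists_hyp h2 hkc hko hcent (by
    rw [hteq]
    refine hinv _ (orderOf_eq_prime ?_ ?_)
    · rw [pow_two, ← map_mul, T_mul]; simp [T_one]
    · exact φ_ne_one hko (by rw [T_mul]; simp [T_one]) (T_ne_one (Or.inr (neg_one_ne h2))))
  -- orders
  have hq3 := LocalThree.three_le_card hH
  have c1 := card_Ht hkc
  have c2 := card_range (φ := φ)
  have c3 := card_sl_three (F := F)
  have c4 := Subgroup.card_mul_index C
  rw [hidx] at c4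
  rw [hrange] at c2
  have hkpos : 0 < Nat.card φ.ker := Nat.card_pos
  obtain ⟨r, hr⟩ : ∃ r, Nat.card F = r + 1 := ⟨Nat.card F - 1, by omega⟩
  set q := Nat.card F with hq
  set z := Nat.card φ.ker with hz
  set m := Nat.card (Ht φ) with hm
  have e1 : q - 1 = r := by omega
  have e2 : q ^ 2 - 1 = r * (q + 1) := by
    rw [hr]; apply Nat.sub_eq_of_eq_add; ring
  have e3 : q ^ 2 - q = r * q := by
    rw [hr]; apply Nat.sub_eq_of_eq_add; ring
  have e4 : q ^ 3 - 1 = r * (q ^ 2 + q + 1) := by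
    rw [hr]; apply Nat.sub_eq_of_eq_add; ring
  have e5 : q ^ 3 - q = r * (q * (q + 1)) := by
    rw [hr]; apply Nat.sub_eq_of_eq_add; ring
  have e6 : q ^ 3 - q ^ 2 = r * q ^ 2 := by
    rw [hr]; apply Nat.sub_eq_of_eq_add; ring
  rw [e1] at c1
  rw [e2, e3] at c2
  rw [e1, e4, e5, e6] at c3
  have hCcard : Nat.card C = m * (q * (q + 1)) := by
    apply Nat.eq_of_mul_eq_mul_left hkpos
    rw [c2]
    calc r * (q + 1) * (r * q) = (r * r) * (q * (q + 1)) := by ring
      _ = (z * m) * (q * (q + 1)) := by rw [c1]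
      _ = z * (m * (q * (q + 1))) := by ring
  have hG : Nat.card G = m * q ^ 3 * ((q + 1) * (q ^ 2 + q + 1)) := by
    rw [← c4, hCcard]; ring
  have hrpos : 0 < r := by omega
  have hSL : Nat.card (SpecialLinearGroup (Fin 3) F) =
      (r * r) * q ^ 3 * ((q + 1) * (q ^ 2 + q + 1)) := by
    apply Nat.eq_of_mul_eq_mul_left hrpos
    rw [c3]; ring
  obtain ⟨_, hb, hb', hcom⟩ := LocalFive.relations hH hG
  refine ToLocal.psl3_of_rel hH hb hb' hcom ?_
  rw [hG, hSL, ← c1]
  apply Nat.mul_le_mul_right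
  apply Nat.mul_le_mul_right
  exact Nat.le_mul_of_pos_left _ hkpos

end Cfsg.Agent.Classification.IdL3.Final
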