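import Cfsg.Agent.Classification.IdL3.Final
import Cfsg.Agent.Classification.InvCentPL.QDIndex
import Cfsg.Agent.Classification.InvCent.InstGL
import Cfsg.Agent.Classification.InvCent.Fusion
import Cfsg.Prelude.Def_Sporadic

/-!
# Assembly of S0484

`result_of`: the statement of S0484 from the character-theoretic data: `hSD` (`q = 3 mod 4`: the
structure `QDOrder.Data`) and `hWR` (`q = 1 mod 4`: the index of the centralizer).
-/

set_option autoImplicit false
set_option linter.unusedSimpArgs false

namespace Cfsg.Agent.Classification.IdL3.Assembly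

open Matrix
open scoped MatrixGroups
open Cfsg.Agent.Classification.IdL3.Mat
open Cfsg.Agent.Classification.IdL3.MatTwo
open Cfsg.Agent.Classification.IdL3.MatThree
open Cfsg.Agent.Classification.IdL3.Setup
open Cfsg.Agent.Classification.IdL3.SetupTwo
open Cfsg.Agent.Classification.IdL3.Final
open Cfsg.Agent.Classification.InvCent

variable {F : Type*} [Field F] {G : Type*} [Group G]

/-- The map `φ` and the element `n` from the isomorphism. -/
theorem exists_phi_hyp [Finite G] [Finite F] (h2 : (2 : F) ≠ 0)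
    (Z : Subgroup (GL (Fin 2) F)) [Z.Normal] (hZc : Z ≤ Subgroup.center (GL (Fin 2) F))
    (hZo : Odd (Nat.card Z)) {t : G} (ht : orderOf t = 2)
    (e : Subgroup.centralizer ({t} : Set G) ≃* (GL (Fin 2) F ⧸ Z))
    (hinv : ∀ s : G, orderOf s = 2 → ∃ g, g * t * g⁻¹ = s) :
    ∃ (φ : GL (Fin 2) F →* G) (n : G), Hyp φ n ∧ tt φ = t := by
  set C := Subgroup.centralizer ({t} : Set G) with hC
  set φ : GL (Fin 2) F →* G :=
    C.subtype.comp (e.symm.toMonoidHom.comp (QuotientGroup.mk' Z)) with hφ
  have hφa : ∀ x, φ x = (e.symm (QuotientGroup.mk' Z x) : C) := fun x => rfl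
  have hker : φ.ker = Z := by
    ext x
    rw [MonoidHom.mem_ker, hφa]
    constructor
    · intro h
      have h1 : e.symm (QuotientGroup.mk' Z x) = 1 := Subtype.ext h
      rw [map_eq_one_iff e.symm e.symm.injective] at h1
      exact (QuotientGroup.eq_one_iff x).mp h1
    · intro h
      have h1 : QuotientGroup.mk' Z x = 1 := (QuotientGroup.eq_one_iff x).mpr h
      rw [h1, map_one]; rfl
  have hrange : φ.range = C := by
    ext g
    constructor
    · rintro ⟨x, rfl⟩
      exact (e.symm (QuotientGroup.mk' Z x)).2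
    · intro hg
      obtain ⟨x, hx⟩ := QuotientGroup.mk'_surjective Z (e ⟨g, hg⟩)
      refine ⟨x, ?_⟩
      rw [hφa, hx, e.symm_apply_apply]
  have hkc : ∀ g, φ g = 1 → g ∈ Subgroup.center (GL (Fin 2) F) := by
    intro g hg
    apply hZc
    rw [← hker]; exact hg
  have hko : Odd (Nat.card φ.ker) := by rw [hker]; exact hZo
  have htt : t * t = 1 := by rw [← pow_two, ← ht, pow_orderOf_eq_one]
  have ht1 : t ≠ 1 := by rintro rfl; rw [orderOf_one] at ht; exact absurd ht (by decide)
  have htC : t ∈ C := Subgroup.mem_centralizer_singleton_iff.mpr rfl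
  have hcomm : ∀ x, t * φ x = φ x * t := by
    intro x
    have h1 : φ x ∈ C := by rw [← hrange]; exact ⟨x, rfl⟩
    exact (Subgroup.mem_centralizer_singleton_iff.mp h1).symm
  have hteq : tt φ = t := tt_eq h2 hkc hko htt ht1 (by
    rw [← hrange] at htC; exact htC) hcomm
  have hcent : ∀ g : G, g * tt φ = tt φ * g → ∃ x, φ x = g := by
    intro g hg
    rw [hteq] at hg
    have h1 : g ∈ C := Subgroup.mem_centralizer_singleton_iff.mpr hg
    rw [← hrange] at h1
    exact h1
  obtain ⟨n, hH⟩ := exists_hyp h2 hkc hko hcent (by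
    rw [hteq]
    refine hinv _ (orderOf_eq_prime ?_ ?_)
    · rw [pow_two, ← map_mul, T_mul]; simp [T_one]
    · exact φ_ne_one hko (by rw [T_mul]; simp [T_one]) (T_ne_one (Or.inr (neg_one_ne h2))))
  exact ⟨φ, n, hH, hteq⟩

/-- **S0484** from the data of the two cases. -/
theorem result_of [Finite G] [IsSimpleGroup G] [Fintype F] (hF : Odd (Fintype.card F))
    (Z : Subgroup (GL (Fin 2) F)) [Z.Normal] (hZc : Z ≤ Subgroup.center (GL (Fin 2) F))
    (hZo : Odd (Nat.card Z)) (t : G) (ht : orderOf t = 2)
    (hC : Nonempty (Subgroup.centralizer ({t} : Set G) ≃* (GL (Fin 2) F ⧸ Z)))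
    (hSD : Fintype.card F % 4 = 3 →
      ∀ (t' : Subgroup.centralizer ({t} : Set G))
        (Z T T' U : Subgroup (Subgroup.centralizer ({t} : Set G)))
        (s s' u : Subgroup.centralizer ({t} : Set G)) (r : ℕ)
        (b : Subgroup.centralizer ({t} : Set G) →* ℂˣ), (t' : G) = t →
        CHyp t' (Fintype.card F) 1 Z T T' U s s' u →
        DetHyp (Fintype.card F) 1 T T' U s s' u r b →
        ∃ k : ℤ, Cfsg.Agent.Classification.InvCentPL.QDOrder.Data t (Fintype.card F) k)
    (hWR : Fintype.card F % 4 = 1 →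
      ∀ (t' : Subgroup.centralizer ({t} : Set G))
        (Z T T' U : Subgroup (Subgroup.centralizer ({t} : Set G)))
        (s s' u : Subgroup.centralizer ({t} : Set G)) (r : ℕ)
        (b : Subgroup.centralizer ({t} : Set G) →* ℂˣ), (t' : G) = t →
        CHyp t' (Fintype.card F) 1 Z T T' U s s' u →
        DetHyp (Fintype.card F) 1 T T' U s s' u r b →
        (Subgroup.centralizer ({t} : Set G)).index =
          Fintype.card F ^ 2 * (Fintype.card F ^ 2 + Fintype.card F + 1)) :
    Nonempty (G ≃* ProjectiveSpecialLinearGroup (Fin 3) F) ∨ Cfsg.IsM11 G := by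
  obtain ⟨t', Z', T, T', U, s, s', u, r, b, htt, hCH, hDH⟩ :=
    InstGL.exists_of_centralizer hF Z hZc hZo ht hC
  have hinv : ∀ s : G, orderOf s = 2 → ∃ g, g * t * g⁻¹ = s := by
    intro s hs
    exact isConj_iff.mp (Fusion.isConj htt hCH s hs)
  obtain ⟨e⟩ := hC
  have h2 : (2 : F) ≠ 0 := by
    intro h
    have h3 : ringChar F = 2 := by
      have h4 : ((2 : ℕ) : F) = 0 := by exact_mod_cast h
      have h5 := (ringChar.spec F 2).mp h4
      rcases (Nat.dvd_prime Nat.prime_two).mp h5 with h6 | h6
      · exfalso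
        have := CharP.cast_eq_zero F (ringChar F)
        rw [h6, Nat.cast_one] at this
        exact one_ne_zero this
      · exact h6
    exact absurd (FiniteField.even_card_of_char_two h3) (by
      obtain ⟨m, hm⟩ := hF
      omega)
  have h4 : Fintype.card F % 4 = 1 ∨ Fintype.card F % 4 = 3 := by
    obtain ⟨m, hm⟩ := hF
    omega
  have hcard : Nat.card F = Fintype.card F := Nat.card_eq_fintype_card
  rcases h4 with h4 | h4
  · left
    refine psl3_of_index h2 Z hZc hZo ht e hinv ?_
    rw [hcard]
    exact hWR h4 t' Z' T T' U s s' u r b htt hCH hDH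
  · obtain ⟨k, hk⟩ := hSD h4 t' Z' T T' U s s' u r b htt hCH hDH
    obtain ⟨φ, n, hH, hφt⟩ := exists_phi_hyp h2 Z hZc hZo ht e hinv
    rcases Cfsg.Agent.Classification.InvCentPL.QDIndex.index_eq hH (by rw [hcard]; exact h4)
      (k := k) (by rw [hφt, hcard]; exact hk) with h | h
    · left
      refine psl3_of_index h2 Z hZc hZo ht e hinv ?_
      rw [← hφt]; exact h
    · right
      exact ⟨inferInstance, h⟩

end Cfsg.Agent.Classification.IdL3.Assembly
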