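import Cfsg.Agent.Classification.IdL3.SetupTwo

/-!
The centralizer of a nonempty set of root elements is `K * Zc`, `K` the set of its elements of odd order.
-/

set_option autoImplicit false
set_option linter.unusedSimpArgs false

namespace Cfsg.Agent.Classification.IdL3.Core

open Matrix
open scoped MatrixGroups
open Cfsg.Agent.Classification.IdL3.Mat
open Cfsg.Agent.Classification.IdL3.MatTwo
open Cfsg.Agent.Classification.IdL3.MatThree
open Cfsg.Agent.Classification.IdL3.Setup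
open Cfsg.Agent.Classification.IdL3.SetupTwo

/-- A cyclic Sylow `2`-subgroup has a normal complement, the set of elements of odd order. -/
theorem exists_odd_core {C : Type*} [Group C] [Finite C] (S : Sylow 2 C) (hS : IsCyclic S) :
    ∃ K : Subgroup C, (∀ g, g ∈ K ↔ Odd (orderOf g)) ∧
      ∀ g, ∃ k ∈ K, ∃ s ∈ (S : Subgroup C), g = k * s := by
  by_cases h2 : 2 ∣ Nat.card C
  · have hmin : (Nat.card C).minFac = 2 := by
      rw [Nat.minFac_eq_two_iff]; exact h2
    have hn := hS.normalizer_le_centralizer hmin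
    have hcomp := hS.isComplement' hmin
    refine ⟨(MonoidHom.transferSylow S hn).ker, ?_, ?_⟩
    · intro g
      constructor
      · intro hg
        have h1 : Odd (Nat.card (MonoidHom.transferSylow S hn).ker) := by
          rw [← Nat.not_even_iff_odd, even_iff_two_dvd]
          exact MonoidHom.not_dvd_card_ker_transferSylow S hn
        have h3 : orderOf (⟨g, hg⟩ : (MonoidHom.transferSylow S hn).ker) ∣ _ :=
          orderOf_dvd_natCard _
        rw [Subgroup.orderOf_mk] at h3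
        exact Odd.of_dvd_nat h1 h3
      · intro hg
        rw [MonoidHom.mem_ker]
        have h1 : orderOf (MonoidHom.transferSylow S hn g) ∣ orderOf g := orderOf_map_dvd _ g
        have h3 : orderOf (MonoidHom.transferSylow S hn g) ∣ Nat.card S := orderOf_dvd_natCard _
        obtain ⟨k, hk⟩ := S.isPGroup'.exists_card_eq
        rw [hk] at h3
        have h4 : Nat.Coprime (orderOf g) (2 ^ k) := by
          apply Nat.Coprime.pow_right
          exact Nat.Coprime.symm ((Nat.coprime_two_left).mpr hg)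
        have h5 := Nat.dvd_gcd h1 h3
        rw [h4] at h5
        exact orderOf_eq_one_iff.mp (Nat.dvd_one.mp h5)
    · intro g
      obtain ⟨⟨k, s⟩, hks⟩ := hcomp.2 g
      exact ⟨k, k.2, s, s.2, hks.symm⟩
  · refine ⟨⊤, ?_, ?_⟩
    · intro g
      refine ⟨fun _ => ?_, fun _ => Subgroup.mem_top _⟩
      have h1 : Odd (Nat.card C) := by
        rw [← Nat.not_even_iff_odd, even_iff_two_dvd]; exact h2
      exact Odd.of_dvd_nat h1 (orderOf_dvd_natCard g)
    · intro g
      exact ⟨g, Subgroup.mem_top _, 1, one_mem _, (mul_one g).symm⟩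

variable {F : Type*} [Field F] {G : Type*} [Group G] {φ : GL (Fin 2) F →* G} {n : G}

/-- `K` is the odd core of `C`, `C = K Zc`. -/
structure Core (φ : GL (Fin 2) F →* G) (C K : Subgroup G) : Prop where
  le : K ≤ C
  mem : ∀ g, g ∈ K ↔ g ∈ C ∧ Odd (orderOf g)
  dec : ∀ g ∈ C, ∃ k ∈ K, ∃ z ∈ Zc φ, g = k * z
  inv : ∀ u ∈ C, u * u = 1 → u ≠ 1 → ∃ c ∈ C, c * u * c⁻¹ = tt φ

/-- unique involution of `Zc`. -/
theorem Zc_inv (hH : Hyp φ n) {z : G} (hz : z ∈ Zc φ) (h2 : z * z = 1) (h1 : z ≠ 1) :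
    z = tt φ := by
  obtain ⟨a, rfl⟩ := mem_Zc.mp hz
  set N := Nat.card φ.ker with hN
  have hker : T a a * T a a ∈ φ.ker := by rw [MonoidHom.mem_ker, map_mul, h2]
  have h3 : (T a a * T a a) ^ N = 1 := by
    have h1 : (⟨T a a * T a a, hker⟩ : φ.ker) ^ Nat.card φ.ker = 1 := pow_card_eq_one'
    exact congrArg Subtype.val h1
  have h4 : ∀ m : ℕ, T a a ^ m = T (a ^ m) (a ^ m) := by
    intro m
    induction m with
    | zero => simp [T_one]
    | succ m ih => rw [pow_succ, ih, T_mul, pow_succ]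
  rw [← pow_two, ← pow_mul, mul_comm, pow_mul, h4 N, pow_two, T_mul] at h3
  have h5 := congrArg (fun k : GL (Fin 2) F => k.1 0 0) h3
  simp only [T_00, one_00, Units.val_mul] at h5
  have h6 : ((a ^ N : Fˣ) : F) = 1 ∨ ((a ^ N : Fˣ) : F) = -1 := mul_self_eq_one_iff.mp h5
  have h7 : φ (T a a) = φ (T (a ^ N) (a ^ N)) := by
    rw [← h4, map_pow]
    obtain ⟨m, hm⟩ := hH.ker_o
    rw [hN, hm, pow_succ, pow_mul, pow_two, h2, one_pow, one_mul]
  rcases h6 with h6 | h6
  · have : a ^ N = 1 := Units.ext h6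
    rw [this, T_one, map_one] at h7
    exact absurd h7 h1
  · have : a ^ N = -1 := Units.ext h6
    rw [h7, this, tt]

theorem odd_card_of_forall [Finite G] {K : Subgroup G} (h : ∀ g ∈ K, Odd (orderOf g)) :
    Odd (Nat.card K) := by
  rw [← Nat.not_even_iff_odd, even_iff_two_dvd]
  intro h2
  obtain ⟨⟨g, hg⟩, ho⟩ := exists_prime_orderOf_dvd_card' 2 h2
  rw [Subgroup.orderOf_mk] at ho
  have := h g hg
  rw [ho] at this
  exact absurd this (by decide)

theorem Core.odd [Finite G] {C K : Subgroup G} (h : Core φ C K) : Odd (Nat.card K) :=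
  odd_card_of_forall fun g hg => ((h.mem g).mp hg).2

theorem Core.conj {C K : Subgroup G} (h : Core φ C K) {g : G} (hg : ∀ c ∈ C, g * c * g⁻¹ ∈ C)
    {k : G} (hk : k ∈ K) : g * k * g⁻¹ ∈ K := by
  rw [h.mem]
  have h1 := (h.mem k).mp hk
  refine ⟨hg k h1.1, ?_⟩
  have : orderOf (g * k * g⁻¹) = orderOf k := by
    have := orderOf_injective (MulAut.conj g).toMonoidHom (MulAut.conj g).injective k
    exact this
  rw [this]; exact h1.2

theorem Zc_cyclic [Finite F] : IsCyclic (Zc φ) := by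
  let f : Fˣ →* Zc φ :=
    { toFun := fun a => ⟨φ (T a a), mem_Zc.mpr ⟨a, rfl⟩⟩
      map_one' := Subtype.ext (by show φ (T 1 1) = 1; rw [T_one, map_one])
      map_mul' := fun a b => Subtype.ext (by
        show φ (T (a * b) (a * b)) = φ (T a a) * φ (T b b)
        rw [← map_mul, T_mul]) }
  refine isCyclic_of_surjective f ?_
  rintro ⟨z, hz⟩
  obtain ⟨a, rfl⟩ := mem_Zc.mp hz
  exact ⟨a, rfl⟩

theorem comm_AZ {x z : G} (hx : x ∈ A φ) (hz : z ∈ Zc φ) : x * z = z * x := by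
  obtain ⟨c, rfl⟩ := mem_A.mp hx
  exact (Zc_comm hz _).symm

/-- `2`-elements of `A Zc` lie in `Zc`. -/
theorem two_elt (hH : Hyp φ n) {p : ℕ} [hp : Fact p.Prime] [CharP F p] {y z : G}
    (hy : y ∈ A φ) (hz : z ∈ Zc φ) {k : ℕ} (h : (y * z) ^ 2 ^ k = 1) : y = 1 := by
  have hc : Commute y z := comm_AZ hy hz
  rw [hc.mul_pow] at h
  have h1 : y ^ 2 ^ k = (z ^ 2 ^ k)⁻¹ := eq_inv_of_mul_eq_one_left h
  have h2 : y ^ 2 ^ k = 1 := by
    refine A_inf_Ht hH ((A φ).pow_mem hy _) ?_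
    rw [h1]
    exact (Ht φ).inv_mem ((Ht φ).pow_mem (Zc_le_Ht hz) _)
  have hp2 : p ≠ 2 := by
    rintro rfl
    exact hH.two (by exact_mod_cast CharP.cast_eq_zero F 2)
  have h3 : y ^ p = 1 := A_pow hy
  have hcop : Nat.Coprime (2 ^ k) p :=
    Nat.Coprime.pow_left k ((Nat.coprime_primes Nat.prime_two hp.out).mpr (Ne.symm hp2))
  have h4 : orderOf y ∣ Nat.gcd (2 ^ k) p :=
    Nat.dvd_gcd (orderOf_dvd_of_pow_eq_one h2) (orderOf_dvd_of_pow_eq_one h3)
  rw [hcop] at h4
  exact orderOf_eq_one_iff.mp (Nat.dvd_one.mp h4)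

theorem exists_core [Finite G] [Finite F] (hH : Hyp φ n) {p : ℕ} [hp : Fact p.Prime] [CharP F p]
    {Y : Set G} (hY : Y ⊆ A φ) {x : G} (hxY : x ∈ Y) (hx1 : x ≠ 1) :
    ∃ K : Subgroup G, Core φ (Subgroup.centralizer Y) K := by
  set C := Subgroup.centralizer Y with hC
  have hxA : x ∈ A φ := hY hxY
  have htC : tt φ ∈ C := by
    rw [hC, Subgroup.mem_centralizer_iff]
    intro y hy
    exact tt_comm_A (hY hy)
  have hCx : ∀ c ∈ C, c * x = x * c := by
    intro c hc
    exact ((Subgroup.mem_centralizer_iff.mp hc) x hxY).symm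
  -- a Sylow subgroup containing `t`
  have hz : IsPGroup 2 (Subgroup.zpowers (⟨tt φ, htC⟩ : C)) := by
    refine IsPGroup.of_card (n := 1) ?_
    rw [pow_one, Nat.card_zpowers, Subgroup.orderOf_mk, orderOf_eq_prime_iff]
    exact ⟨by rw [pow_two]; exact tt_sq φ, hH.tt_ne⟩
  obtain ⟨S, hS⟩ := hz.exists_le_sylow
  have htS : (⟨tt φ, htC⟩ : C) ∈ (S : Subgroup C) := hS (Subgroup.mem_zpowers _)
  have hSne : Nontrivial S := by
    refine ⟨⟨⟨_, htS⟩, 1, ?_⟩⟩
    intro h
    exact hH.tt_ne (congrArg (fun y : S => ((y : C) : G)) h)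
  -- a central involution of `S`
  have hcen : Nontrivial (Subgroup.center S) := S.isPGroup'.center_nontrivial
  have h2c : 2 ∣ Nat.card (Subgroup.center S) :=
    (S.isPGroup'.to_subgroup _).card_eq_or_dvd.resolve_left (by
      intro h
      have := Finite.one_lt_card_iff_nontrivial.mpr hcen
      omega)
  obtain ⟨⟨z, hzc⟩, hzo⟩ := exists_prime_orderOf_dvd_card' 2 h2c
  rw [Subgroup.orderOf_mk] at hzo
  have hzo' : orderOf ((z : C) : G) = 2 := by
    rw [Subgroup.orderOf_coe, Subgroup.orderOf_coe]; exact hzo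
  have hzz : ((z : C) : G) * ((z : C) : G) = 1 := by
    have := pow_orderOf_eq_one ((z : C) : G)
    rwa [hzo', pow_two] at this
  have hz1 : ((z : C) : G) ≠ 1 := by
    intro h
    rw [h, orderOf_one] at hzo'
    exact absurd hzo' (by decide)
  have hzt : ((z : C) : G) * tt φ = tt φ * ((z : C) : G) := by
    have h1 := (Subgroup.mem_center_iff.mp hzc) ⟨_, htS⟩
    exact (congrArg (fun y : S => ((y : C) : G)) h1).symm
  have hzeq : ((z : C) : G) = tt φ := by
    obtain ⟨y, hy, c, hc, e⟩ := mem_AZ hH hxA hx1 hzt (hCx _ (z : C).2)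
    have hy1 : y = 1 := two_elt hH (p := p) hy hc (k := 1) (by rw [pow_one, pow_two, ← e, hzz])
    rw [hy1, one_mul] at e
    rw [e] at hzz hz1 ⊢
    exact Zc_inv hH hc hzz hz1
  -- `S ≤ Zc`
  have hSZ : ∀ s : C, s ∈ (S : Subgroup C) → (s : G) ∈ Zc φ := by
    intro s hs
    have hst : (s : G) * tt φ = tt φ * (s : G) := by
      have h1 := (Subgroup.mem_center_iff.mp hzc) ⟨s, hs⟩
      have h3 := congrArg (fun y : S => ((y : C) : G)) h1
      simp only [Subgroup.coe_mul] at h3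
      rwa [hzeq] at h3
    obtain ⟨y, hy, c, hc, e⟩ := mem_AZ hH hxA hx1 hst (hCx _ s.2)
    obtain ⟨k, hk⟩ := S.isPGroup' ⟨s, hs⟩
    have hk' : (s : G) ^ 2 ^ k = 1 := congrArg (fun y : S => ((y : C) : G)) hk
    have hy1 : y = 1 := two_elt hH (p := p) hy hc (k := k) (by rw [← e, hk'])
    rw [e, hy1, one_mul]; exact hc
  have hScyc : IsCyclic S := by
    have := Zc_cyclic (φ := φ)
    let f : S →* Zc φ :=
      { toFun := fun s => ⟨((s : C) : G), hSZ s s.2⟩
        map_one' := rfl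
        map_mul' := fun _ _ => rfl }
    refine isCyclic_of_injective f ?_
    intro a b h
    exact Subtype.ext (Subtype.ext (congrArg (fun y : Zc φ => (y : G)) h))
  obtain ⟨K, hK1, hK2⟩ := exists_odd_core S hScyc
  refine ⟨K.map C.subtype, Subgroup.map_subtype_le K, ?_, ?_, ?_⟩
  · intro g
    constructor
    · rintro ⟨k, hk, rfl⟩
      refine ⟨k.2, ?_⟩
      have h1 := (hK1 k).mp hk
      rw [← Subgroup.orderOf_coe] at h1
      exact h1
    · rintro ⟨hg, ho⟩
      refine ⟨⟨g, hg⟩, (hK1 _).mpr ?_, rfl⟩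
      rw [Subgroup.orderOf_mk]; exact ho
  · intro g hg
    obtain ⟨k, hk, s, hs, e⟩ := hK2 ⟨g, hg⟩
    exact ⟨k, ⟨k, hk, rfl⟩, s, hSZ s hs, congrArg Subtype.val e⟩
  · intro u hu hu2 hu1
    have hup : IsPGroup 2 (Subgroup.zpowers (⟨u, hu⟩ : C)) := by
      refine IsPGroup.of_card (n := 1) ?_
      rw [pow_one, Nat.card_zpowers, Subgroup.orderOf_mk, orderOf_eq_prime_iff]
      exact ⟨by rw [pow_two]; exact hu2, hu1⟩
    obtain ⟨S', hS'⟩ := hup.exists_le_sylow
    have huS : (⟨u, hu⟩ : C) ∈ (S' : Subgroup C) := hS' (Subgroup.mem_zpowers _)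
    obtain ⟨c, hc⟩ := MulAction.exists_smul_eq C S' S
    have h1 : c * ⟨u, hu⟩ * c⁻¹ ∈ (S : Subgroup C) := by
      rw [← hc]
      exact ⟨_, huS, rfl⟩
    have h3 := hSZ _ h1
    have e1 : ((c * ⟨u, hu⟩ * c⁻¹ : C) : G) = (c : G) * u * (c : G)⁻¹ := rfl
    rw [e1] at h3
    refine ⟨c, c.2, Zc_inv hH h3 ?_ ?_⟩
    · have : (c : G) * u * (c : G)⁻¹ * ((c : G) * u * (c : G)⁻¹) = (c : G) * (u * u) * (c : G)⁻¹ := by
        group
      rw [this, hu2]; group
    · intro h
      apply hu1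
      have : u = (c : G)⁻¹ * ((c : G) * u * (c : G)⁻¹) * c := by group
      rw [this, h]; group

end Cfsg.Agent.Classification.IdL3.Core
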