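import Cfsg.Agent.Classification.IdL3.Core
import Cfsg.Agent.Lib.KleinGen
import Cfsg.Agent.Lib.PGroupCoprimeAction

/-!
Local analysis: root groups commuting with `A φ`.
-/

set_option autoImplicit false
set_option linter.unusedSimpArgs false

namespace Cfsg.Agent.Classification.IdL3.Local

open Matrix
open scoped MatrixGroups
open Cfsg.Agent.Classification.IdL3.Mat
open Cfsg.Agent.Classification.IdL3.MatTwo
open Cfsg.Agent.Classification.IdL3.MatThree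
open Cfsg.Agent.Classification.IdL3.Setup
open Cfsg.Agent.Classification.IdL3.SetupTwo
open Cfsg.Agent.Classification.IdL3.Core

variable {F : Type*} [Field F] {G : Type*} [Group G] {φ : GL (Fin 2) F →* G} {n : G}

/-- the diagonal four-group. -/
def Dsub (F : Type*) [Field F] : Subgroup (GL (Fin 2) F) where
  carrier := {g | ∃ a b : Fˣ, a * a = 1 ∧ b * b = 1 ∧ g = T a b}
  mul_mem' := by
    rintro _ _ ⟨a, b, ha, hb, rfl⟩ ⟨a', b', ha', hb', rfl⟩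
    refine ⟨a * a', b * b', ?_, ?_, T_mul a b a' b'⟩
    · rw [mul_mul_mul_comm, ha, ha', one_mul]
    · rw [mul_mul_mul_comm, hb, hb', one_mul]
  one_mem' := ⟨1, 1, by simp, by simp, T_one.symm⟩
  inv_mem' := by
    rintro _ ⟨a, b, ha, hb, rfl⟩
    refine ⟨a⁻¹, b⁻¹, ?_, ?_, T_inv a b⟩
    · rw [← mul_inv, ha, inv_one]
    · rw [← mul_inv, hb, inv_one]

/-- the diagonal four-group in `G`. -/
def Dv (φ : GL (Fin 2) F →* G) : Subgroup G := (Dsub F).map φ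

theorem mem_Dv {s s' x : G} (h : Pair φ s s') (hx : x ∈ Dv φ) :
    x = 1 ∨ x = tt φ ∨ x = s ∨ x = s' := by
  obtain ⟨_, ⟨a, b, ha, hb, rfl⟩, rfl⟩ := hx
  have key : ∀ a : Fˣ, a * a = 1 → a = 1 ∨ a = -1 := by
    intro a ha
    have h1 : (a : F) * a = 1 := by
      rw [← Units.val_mul, ha, Units.val_one]
    rcases mul_self_eq_one_iff.mp h1 with h | h
    · exact Or.inl (Units.ext h)
    · exact Or.inr (Units.ext h)
  rcases key a ha with rfl | rfl <;> rcases key b hb with rfl | rfl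
  · left; rw [T_one, map_one]
  · rcases h with ⟨h1, h2⟩ | ⟨h1, h2⟩
    · right; right; left; exact h1.symm
    · right; right; right; exact h2.symm
  · rcases h with ⟨h1, h2⟩ | ⟨h1, h2⟩
    · right; right; right; exact h2.symm
    · right; right; left; exact h1.symm
  · right; left; rfl

theorem Dv_le_Ht : Dv φ ≤ Ht φ := by
  rintro _ ⟨_, ⟨a, b, _, _, rfl⟩, rfl⟩
  exact mem_Ht.mpr ⟨a, b, rfl⟩

theorem tt_mem_Dv : tt φ ∈ Dv φ := ⟨_, ⟨-1, -1, by simp, by simp, rfl⟩, rfl⟩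

theorem pair_mem_Dv {s s' : G} (h : Pair φ s s') : s ∈ Dv φ := by
  rcases h with ⟨h1, _⟩ | ⟨h1, _⟩
  · rw [h1]; exact ⟨_, ⟨1, -1, by simp, by simp, rfl⟩, rfl⟩
  · rw [h1]; exact ⟨_, ⟨-1, 1, by simp, by simp, rfl⟩, rfl⟩

theorem Dv_pgroup : IsPGroup 2 (Dv φ) := by
  rintro ⟨_, _, ⟨a, b, ha, hb, rfl⟩, rfl⟩
  refine ⟨1, Subtype.ext ?_⟩
  show φ (T a b) ^ 2 ^ 1 = 1
  rw [pow_one, pow_two, ← map_mul, T_mul, ha, hb, T_one, map_one]

theorem A_pgroup {p : ℕ} [CharP F p] : IsPGroup p (A φ) := by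
  rintro ⟨x, hx⟩
  exact ⟨1, Subtype.ext (by show x ^ p ^ 1 = 1; rw [pow_one]; exact A_pow hx)⟩

theorem B_pgroup {p : ℕ} [CharP F p] : IsPGroup p (B φ) := by
  rw [← A_fl]; exact A_pgroup

theorem p_ne_two (hH : Hyp φ n) {p : ℕ} [CharP F p] : p ≠ 2 := by
  rintro rfl
  exact hH.two (by exact_mod_cast CharP.cast_eq_zero F 2)

/-- `p`-elements of `K` are conjugate into a Sylow subgroup. -/
theorem sylow_conj_mem {K S : Subgroup G} [Finite G] {p : ℕ} [Fact p.Prime]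
    (hS : ∃ T : Sylow p K, (T : Subgroup K).map K.subtype = S) {g : G} (hg : g ∈ K) {k : ℕ}
    (hgp : g ^ p ^ k = 1) : ∃ c ∈ K, c * g * c⁻¹ ∈ S := by
  obtain ⟨T, rfl⟩ := hS
  have hz : IsPGroup p (Subgroup.zpowers (⟨g, hg⟩ : K)) := by
    rintro ⟨x, m, rfl⟩
    refine ⟨k, Subtype.ext (Subtype.ext ?_)⟩
    show (g ^ m) ^ p ^ k = 1
    rw [← zpow_natCast, ← _root_.zpow_mul, mul_comm, _root_.zpow_mul, zpow_natCast, hgp, _root_.one_zpow]
  obtain ⟨T', hT'⟩ := hz.exists_le_sylow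
  obtain ⟨c, hc⟩ := MulAction.exists_smul_eq K T' T
  refine ⟨c, c.2, ?_⟩
  have h1 : c * ⟨g, hg⟩ * c⁻¹ ∈ (T : Subgroup K) := by
    rw [← hc]
    exact ⟨_, hT' (Subgroup.mem_zpowers _), rfl⟩
  exact ⟨_, h1, rfl⟩

theorem sylow_pelt {K S : Subgroup G} {p : ℕ}
    (hS : ∃ T : Sylow p K, (T : Subgroup K).map K.subtype = S) {s : G} (hs : s ∈ S) :
    ∃ k : ℕ, s ^ p ^ k = 1 := by
  obtain ⟨T, rfl⟩ := hS
  obtain ⟨x, hx, rfl⟩ := hs
  obtain ⟨k, hk⟩ := T.isPGroup' ⟨x, hx⟩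
  exact ⟨k, congrArg (fun y : T => ((y : K) : G)) hk⟩

theorem sylow_le {K S : Subgroup G} {p : ℕ}
    (hS : ∃ T : Sylow p K, (T : Subgroup K).map K.subtype = S) : S ≤ K := by
  obtain ⟨T, rfl⟩ := hS
  exact Subgroup.map_subtype_le _

/-- `C(A)` is normalised by `Ht`. -/
theorem Ht_conj_C {h c : G} (hh : h ∈ Ht φ) (hc : c ∈ Subgroup.centralizer (A φ : Set G)) :
    h * c * h⁻¹ ∈ Subgroup.centralizer (A φ : Set G) := by
  rw [Subgroup.mem_centralizer_iff] at hc ⊢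
  intro x hx
  have h1 : h⁻¹ * x * h ∈ A φ := by
    have := conj_A ((Ht φ).inv_mem hh) hx
    rwa [inv_inv] at this
  have h2 := hc _ h1
  have h3 : x * (h * c * h⁻¹) = h * (h⁻¹ * x * h * c) * h⁻¹ := by group
  rw [h3, h2]; group

section P1

variable {p : ℕ} [hp : Fact p.Prime] [CharP F p] {K : Subgroup G}

theorem odd_p (hH : Hyp φ n) : Odd p := hp.out.odd_of_ne_two (p_ne_two hH)

theorem A_le_core (p : ℕ) [Fact p.Prime] [CharP F p] (hH : Hyp φ n) (hK : Core φ (Subgroup.centralizer (A φ : Set G)) K) :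
    A φ ≤ K := by
  intro x hx
  rw [hK.mem]
  refine ⟨Subgroup.mem_centralizer_iff.mpr fun y hy => A_comm hy hx, ?_⟩
  exact Odd.of_dvd_nat (odd_p (p := p) hH) (orderOf_dvd_of_pow_eq_one (A_pow hx))

/-- `p`-elements of `C(A) ∩ C(t)` lie in `A`. -/
theorem mem_A_of_pelt (hH : Hyp φ n) [Finite F] {y x : G} (hx : x ∈ A φ) (hx1 : x ≠ 1)
    (h0 : y * tt φ = tt φ * y) (h1 : y * x = x * y) {k : ℕ} (hk : y ^ p ^ k = 1) : y ∈ A φ := by
  obtain ⟨a, ha, z, hz, rfl⟩ := mem_AZ hH hx hx1 h0 h1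
  have := borel_pelt hH ha (Zc_le_Ht hz) hk
  rw [this, mul_one]; exact ha

theorem exists_A_ne (hH : Hyp φ n) : ∃ x ∈ A φ, x ≠ 1 := by
  refine ⟨φ (U 1), mem_A.mpr ⟨1, rfl⟩, ?_⟩
  intro h
  have h1 : φ (U 1) = φ (U (0 : F)) := by rw [h, U_zero, map_one]
  exact one_ne_zero (hH.U_inj h1)

theorem Ht_conj_A' {h x : G} (hh : h ∈ Ht φ) (hx : x ∈ A φ) : h * x * h⁻¹ ∈ A φ := conj_A hh hx

/-- A `D`-invariant Sylow `p`-subgroup of the core. -/
theorem exists_inv_sylow [Finite G] (hK : Core φ (Subgroup.centralizer (A φ : Set G)) K)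
    {R : Subgroup G} (hRK : R ≤ K) (hR : IsPGroup p R)
    (hDR : ∀ b ∈ Dv φ, ∀ u ∈ R, b * u * b⁻¹ ∈ R) :
    ∃ S : Subgroup G, (∃ T : Sylow p K, (T : Subgroup K).map K.subtype = S) ∧
      (∀ b ∈ Dv φ, ∀ u ∈ S, b * u * b⁻¹ ∈ S) ∧ R ≤ S := by
  refine Lib.PGroupCoprimeAction.exists_invariant_sylow_ge Dv_pgroup ?_ ?_ hRK hR hDR
  · intro h2
    exact (Nat.not_even_iff_odd.mpr hK.odd) (even_iff_two_dvd.mpr h2)
  · intro b hb u hu
    exact hK.conj (fun c hc => Ht_conj_C (Dv_le_Ht hb) hc) hu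

/-- `K ∩ C(s)` for `s = n t n⁻¹`. -/
theorem rel_of_pelt [Finite G] [Finite F] (hH : Hyp φ n)
    (hK : Core φ (Subgroup.centralizer (A φ : Set G)) K) {y : G} (hy : y ∈ K) (hy1 : y ≠ 1)
    {k : ℕ} (hk : y ^ p ^ k = 1)
    (hc : y * (n * tt φ * n⁻¹) = (n * tt φ * n⁻¹) * y) : Ra φ n ∨ Rb φ n := by
  set M : Subgroup G := K ⊓ Subgroup.centralizer {n * tt φ * n⁻¹} with hM
  have hmemM : ∀ m ∈ M, m * tt (cφ n φ) = tt (cφ n φ) * m := by
    intro m hm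
    exact (Subgroup.mem_centralizer_singleton_iff.mp hm.2)
  have hMH : ∀ h ∈ Ht (cφ n φ), ∀ m ∈ M, h * m * h⁻¹ ∈ M := by
    intro h hh m hm
    rw [hH.Ht_rot] at hh
    refine ⟨hK.conj (fun c hc => Ht_conj_C hh hc) hm.1, ?_⟩
    refine Subgroup.mem_centralizer_singleton_iff.mpr ?_
    have h1 := Ht_comm hh hH.pair.mem
    have h2 := Subgroup.mem_centralizer_singleton_iff.mp hm.2
    have h3 := Ht_comm ((Ht φ).inv_mem hh) hH.pair.mem
    set s := n * tt φ * n⁻¹ with hs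
    calc h * m * h⁻¹ * s = h * m * (h⁻¹ * s) := by group
      _ = h * (m * s) * h⁻¹ := by rw [h3]; group
      _ = (h * s) * m * h⁻¹ := by rw [h2]; group
      _ = s * (h * m * h⁻¹) := by rw [h1]; group
  have hyM : y ∈ M := ⟨hy, Subgroup.mem_centralizer_singleton_iff.mpr hc⟩
  rcases torus_G hH.rot M hmemM hMH hyM hy1 hk with h | h
  · left
    intro x hx z hz
    have h1 := hK.le (h hz).1
    exact Subgroup.mem_centralizer_iff.mp h1 x hx
  · right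
    intro x hx z hz
    have h1 := hK.le (h hz).1
    exact Subgroup.mem_centralizer_iff.mp h1 x hx

/-- Klein generation. -/
theorem le_of_D (hH : Hyp φ n) {S M : Subgroup G} (hodd : Odd (Nat.card S))
    (hS : ∀ b ∈ Dv φ, ∀ u ∈ S, b * u * b⁻¹ ∈ S)
    (h0 : ∀ u ∈ S, u * tt φ = tt φ * u → u ∈ M)
    (h1 : ∀ u ∈ S, u * (n * tt φ * n⁻¹) = (n * tt φ * n⁻¹) * u → u ∈ M)
    (h2 : ∀ u ∈ S, u * (n⁻¹ * tt φ * n) = (n⁻¹ * tt φ * n) * u → u ∈ M) : S ≤ M := by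
  refine Lib.KleinGen.le_of_klein S M hodd (tt φ) (n * tt φ * n⁻¹) (tt_sq φ) hH.pair.sq ?_
    (hS _ tt_mem_Dv) (hS _ (pair_mem_Dv hH.pair)) ?_ ?_ ?_
  · exact Ht_comm tt_mem_Ht hH.pair.mem
  · intro u hu
    exact h0 u hu.1 (Subgroup.mem_centralizer_singleton_iff.mp hu.2)
  · intro u hu
    exact h1 u hu.1 (Subgroup.mem_centralizer_singleton_iff.mp hu.2)
  · intro u hu
    refine h2 u hu.1 ?_
    have := (Subgroup.mem_centralizer_singleton_iff.mp hu.2)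
    rwa [hH.pair.mul''] at this

theorem odd_of_sylow [Finite G] {K S : Subgroup G} (hKo : Odd (Nat.card K)) (h : S ≤ K) :
    Odd (Nat.card S) := Odd.of_dvd_nat hKo (Subgroup.card_dvd_of_le h)

/-- First step. -/
theorem step_one [Finite G] [Finite F] (hH : Hyp φ n)
    (hK : Core φ (Subgroup.centralizer (A φ : Set G)) K) {g : G} (hg : g ∈ K) (hgA : g ∉ A φ)
    {k : ℕ} (hgp : g ^ p ^ k = 1) : Ra φ n ∨ Rb φ n ∨ Rb φ n⁻¹ := by
  obtain ⟨S, hSyl, hSD, hAS⟩ := exists_inv_sylow (p := p) hK (A_le_core p hH hK) A_pgroup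
    (fun b hb u hu => conj_A (Dv_le_Ht hb) hu)
  obtain ⟨x, hx, hx1⟩ := exists_A_ne hH
  have hSK := sylow_le hSyl
  by_contra hcon
  rw [not_or, not_or] at hcon
  obtain ⟨na, nb, nb'⟩ := hcon
  have hSA : S ≤ A φ := by
    refine le_of_D hH (odd_of_sylow hK.odd hSK) hSD ?_ ?_ ?_
    · intro u hu hc
      obtain ⟨k, hk⟩ := sylow_pelt hSyl hu
      have h1 := hK.le (hSK hu)
      exact mem_A_of_pelt hH hx hx1 hc (Subgroup.mem_centralizer_iff.mp h1 x hx).symm hk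
    · intro u hu hc
      obtain ⟨k, hk⟩ := sylow_pelt hSyl hu
      by_cases hu1 : u = 1
      · rw [hu1]; exact (A φ).one_mem
      · rcases rel_of_pelt hH hK (hSK hu) hu1 hk hc with h | h
        · exact absurd h na
        · exact absurd h nb
    · intro u hu hc
      obtain ⟨k, hk⟩ := sylow_pelt hSyl hu
      by_cases hu1 : u = 1
      · rw [hu1]; exact (A φ).one_mem
      · have hc' : u * (n⁻¹ * tt φ * n⁻¹⁻¹) = n⁻¹ * tt φ * n⁻¹⁻¹ * u := by rw [inv_inv]; exact hc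
        rcases rel_of_pelt hH.inv hK (hSK hu) hu1 hk hc' with h | h
        · have := Ra.inv hH.inv h
          rw [inv_inv] at this
          exact absurd this na
        · exact absurd h nb'
  obtain ⟨c, hc, hcg⟩ := sylow_conj_mem hSyl hg hgp
  have h1 := hSA hcg
  have h3 := Subgroup.mem_centralizer_iff.mp (hK.le hc) _ h1
  apply hgA
  have h4 : g = c⁻¹ * (c * g * c⁻¹ * c) := by group
  rw [h4, h3]
  have h5 : c⁻¹ * (c * (c * g * c⁻¹)) = c * g * c⁻¹ := by group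
  rwa [h5]

end P1

end Cfsg.Agent.Classification.IdL3.Local
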