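import Cfsg.Agent.Classification.IdL3.LocalFour

/-!
`[B₁, B₂] ≤ A₀`, and summary of the local analysis.
-/

set_option autoImplicit false
set_option linter.unusedSimpArgs false

namespace Cfsg.Agent.Classification.IdL3.LocalFive

open Matrix
open scoped MatrixGroups
open Cfsg.Agent.Classification.IdL3.Mat
open Cfsg.Agent.Classification.IdL3.MatTwo
open Cfsg.Agent.Classification.IdL3.MatThree
open Cfsg.Agent.Classification.IdL3.Setup
open Cfsg.Agent.Classification.IdL3.SetupTwo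
open Cfsg.Agent.Classification.IdL3.Core
open Cfsg.Agent.Classification.IdL3.Local
open Cfsg.Agent.Classification.IdL3.LocalTwo
open Cfsg.Agent.Classification.IdL3.LocalThree
open Cfsg.Agent.Classification.IdL3.LocalFour

variable {F : Type*} [Field F] {G : Type*} [Group G] {φ : GL (Fin 2) F →* G} {n : G}

/-- An element `s` is `c k` with `c` fixed and `k` inverted by the involution `t`. -/
theorem exists_fixed_inverted {G : Type*} [Group G] {S : Subgroup G} {t s : G} (ht : t * t = 1)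
    (hS : ∀ u ∈ S, t * u * t⁻¹ ∈ S) (hs : s ∈ S) {j : ℕ}
    (hj : (s⁻¹ * (t * s * t⁻¹)) ^ (2 * j + 1) = 1) :
    ∃ c ∈ S, ∃ k ∈ S, s = c * k ∧ c * t = t * c ∧ t * k * t⁻¹ = k⁻¹ := by
  have hti : t⁻¹ = t := inv_eq_of_mul_eq_one_left ht
  set g := s⁻¹ * (t * s * t⁻¹) with hg
  have hgS : g ∈ S := S.mul_mem (S.inv_mem hs) (hS s hs)
  have h1 : t * g * t⁻¹ = g⁻¹ := by
    have e1 : t * g * t⁻¹ = (t * s * t⁻¹)⁻¹ * (t * t * s * (t * t)⁻¹) := by rw [hg]; group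
    rw [e1, ht, hg]; group
  have h2 : ∀ m : ℕ, t * g ^ m * t⁻¹ = (g ^ m)⁻¹ := by
    intro m
    have e1 : t * g ^ m * t⁻¹ = (t * g * t⁻¹) ^ m := by
      induction m with
      | zero => simp
      | succ m ih => rw [pow_succ, pow_succ, ← ih]; group
    rw [e1, h1, inv_pow]
  refine ⟨s * (g ^ j)⁻¹, S.mul_mem hs (S.inv_mem (S.pow_mem hgS j)), g ^ j, S.pow_mem hgS j,
    by group, ?_, h2 j⟩
  have h3 : g * g ^ j = (g ^ j)⁻¹ := by
    rw [eq_inv_iff_mul_eq_one, ← pow_succ', ← pow_add, ← hj]; congr 1; ring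
  have h4 : t * (s * (g ^ j)⁻¹) * t⁻¹ = s * (g ^ j)⁻¹ := by
    have e1 : t * (s * (g ^ j)⁻¹) * t⁻¹ = s * (s⁻¹ * (t * s * t⁻¹)) * (t * g ^ j * t⁻¹)⁻¹ := by group
    rw [e1, h2 j, inv_inv, ← hg, mul_assoc, h3]
  rw [mul_inv_eq_iff_eq_mul] at h4
  exact h4.symm

/-- the commutator of `B₁` and `B₂` lies in `A₀`. -/
theorem commutator_mem [Finite G] [Finite F] (hH : Hyp φ n) (hb : Rb φ n) (hb' : Rb φ n⁻¹) :
    ∀ x ∈ B (cφ n φ), ∀ y ∈ B (cφ n⁻¹ φ), x * y * x⁻¹ * y⁻¹ ∈ A φ := by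
  obtain ⟨p, hp'⟩ := CharP.exists F
  have hpp : Fact p.Prime :=
    ⟨(CharP.char_is_prime_or_zero F p).resolve_right (CharP.char_ne_zero_of_finite F p)⟩
  obtain ⟨a₀, ha₀, ha₁⟩ := exists_A_ne hH
  obtain ⟨K, hK⟩ := exists_core (p := p) hH (Y := (A φ : Set G)) subset_rfl ha₀ ha₁
  have hB1 := B1_le_core p hH hK hb
  have hB2 := B1_le_core p hH.inv hK hb'
  obtain ⟨S, hS, hSD, hBS⟩ := exists_inv_sylow (p := p) hK hB1 B_pgroup
    (fun b hb u hu => conj_B (by rw [hH.Ht_rot]; exact Dv_le_Ht hb) hu)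
  obtain ⟨S', hS', hSD', hBS'⟩ := exists_inv_sylow (p := p) hK hB2 B_pgroup
    (fun b hb u hu => conj_B (by rw [hH.Ht_rot']; exact Dv_le_Ht hb) hu)
  obtain ⟨c, ⟨hcK, hcD⟩, hcS⟩ := Lib.PGroupCoprimeAction.exists_centralizer_conj
    (A := Dv φ) (H := K) Dv_pgroup (by
      intro h2
      exact (Nat.not_even_iff_odd.mpr hK.odd) (even_iff_two_dvd.mpr h2)) (by
      intro b hb u hu
      exact hK.conj (fun c hc => Ht_conj_C (Dv_le_Ht hb) hc) hu) hS' hS hSD' hSD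
  have hcH : c ∈ Ht φ := by
    refine hH.mem_Ht_of_comm ?_ ?_
    · exact (Subgroup.mem_centralizer_iff.mp hcD _ tt_mem_Dv).symm
    · exact (Subgroup.mem_centralizer_iff.mp hcD _ (pair_mem_Dv hH.pair)).symm
  have hB2S : B (cφ n⁻¹ φ) ≤ S := by
    intro y hy
    rw [← hcS]
    have h1 : c⁻¹ * y * c ∈ B (cφ n⁻¹ φ) := by
      have := conj_B (φ := cφ n⁻¹ φ) (h := c⁻¹) (by rw [hH.Ht_rot']; exact (Ht φ).inv_mem hcH) hy
      rwa [inv_inv] at this
    refine ⟨_, hBS' h1, ?_⟩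
    show c * (c⁻¹ * y * c) * c⁻¹ = y
    group
  intro x hx y hy
  have hsS : x * y ∈ S := S.mul_mem (hBS hx) (hB2S hy)
  have htS : ∀ u ∈ S, tt φ * u * (tt φ)⁻¹ ∈ S := hSD _ tt_mem_Dv
  have hts : tt φ * (x * y) * (tt φ)⁻¹ = x⁻¹ * y⁻¹ := by
    have h1 := Pair.inverts_B (pair_rot hH).symm hx
    have h2 := Pair.inverts_B (pair_rot' hH) hy
    have h3 : tt φ * (x * y) * (tt φ)⁻¹ = (tt φ * x * (tt φ)⁻¹) * (tt φ * y * (tt φ)⁻¹) := by
      group
    rw [h3, h1, h2]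
  have hSK := sylow_le hS
  have hodd : Odd (orderOf ((x * y)⁻¹ * (tt φ * (x * y) * (tt φ)⁻¹))) :=
    ((hK.mem _).mp (K.mul_mem (K.inv_mem (hSK hsS)) (hSK (htS _ hsS)))).2
  obtain ⟨j, hj⟩ := hodd
  obtain ⟨d, hd, k, hk, e, hdt, hkt⟩ := exists_fixed_inverted (tt_sq φ) htS hsS (j := j)
    (by rw [← hj, pow_orderOf_eq_one])
  have hdA : d ∈ A φ := by
    obtain ⟨i, hi⟩ := sylow_pelt hS hd
    exact mem_A_of_pelt (p := p) hH ha₀ ha₁ hdt
      (Subgroup.mem_centralizer_iff.mp (hK.le (hSK hd)) a₀ ha₀).symm hi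
  have hdk : d * k = k * d := Subgroup.mem_centralizer_iff.mp (hK.le (hSK hk)) d hdA
  have h5 : tt φ * (x * y) * (tt φ)⁻¹ = d * k⁻¹ := by
    have h6 : tt φ * (d * k) * (tt φ)⁻¹ = (tt φ * d * (tt φ)⁻¹) * (tt φ * k * (tt φ)⁻¹) := by
      group
    rw [e, h6, hkt, ← hdt, mul_inv_cancel_right]
  have h6 : x * y * x⁻¹ * y⁻¹ = d * d := by
    calc x * y * x⁻¹ * y⁻¹ = (x * y) * (x⁻¹ * y⁻¹) := by group
      _ = (d * k) * (d * k⁻¹) := by rw [← hts, h5, e]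
      _ = d * (k * d) * k⁻¹ := by group
      _ = d * d := by rw [← hdk]; group
  rw [h6]
  exact (A φ).mul_mem hdA hdA

/-- Summary: the relations of `SL₃`. -/
theorem relations [Finite G] [Finite F] (hH : Hyp φ n)
    (hcard : Nat.card G = Nat.card (Ht φ) * Nat.card F ^ 3 *
      ((Nat.card F + 1) * (Nat.card F ^ 2 + Nat.card F + 1))) :
    ¬ Ra φ n ∧ Rb φ n ∧ Rb φ n⁻¹ ∧
      ∀ x ∈ B (cφ n φ), ∀ y ∈ B (cφ n⁻¹ φ), x * y * x⁻¹ * y⁻¹ ∈ A φ := by
  have hna := not_Ra hH hcard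
  have hna' : ¬ Ra φ n⁻¹ := by
    intro h
    have := Ra.inv hH.inv h
    rw [inv_inv] at this
    exact hna this
  have hdvd : Nat.card F ^ 3 ∣ Nat.card G := by
    rw [hcard]
    exact dvd_mul_of_dvd_left (dvd_mul_left _ _) _
  obtain ⟨p, hp'⟩ := CharP.exists F
  have hpp : Fact p.Prime :=
    ⟨(CharP.char_is_prime_or_zero F p).resolve_right (CharP.char_ne_zero_of_finite F p)⟩
  have hrel : Ra φ n ∨ Rb φ n ∨ Rb φ n⁻¹ := by
    obtain ⟨P, hP⟩ := (A_pgroup (φ := φ) (p := p)).exists_le_sylow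
    have hF : ∃ f : ℕ, Nat.card F = p ^ f := by
      have := Fintype.ofFinite F
      obtain ⟨m, _, hm⟩ := FiniteField.card F p
      exact ⟨m, by rw [Nat.card_eq_fintype_card, hm]⟩
    obtain ⟨f, hf⟩ := hF
    have hPc : Nat.card F ^ 3 ∣ Nat.card P := by
      rw [hf, ← pow_mul] at hdvd ⊢
      exact P.pow_dvd_card_of_pow_dvd_card hdvd
    refine exists_rel hH P.isPGroup' hP ?_
    intro e
    have h1 : Nat.card (A φ) = Nat.card P := by rw [e]
    rw [card_A hH] at h1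
    have h2 := Nat.le_of_dvd Nat.card_pos hPc
    rw [← h1] at h2
    have h3 : 1 < Nat.card F := Finite.one_lt_card
    have h4 : Nat.card F ^ 3 = Nat.card F * (Nat.card F * Nat.card F) := by ring
    rw [h4] at h2
    nlinarith [Nat.mul_pos (by omega : 0 < Nat.card F) (by omega : 0 < Nat.card F)]
  rcases hrel with h | h | h
  · exact absurd h hna
  · have h' := Rb_both hH h hna hdvd
    exact ⟨hna, h, h', commutator_mem hH h h'⟩
  · have h' := Rb_both hH.inv h hna' hdvd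
    rw [inv_inv] at h'
    exact ⟨hna, h', h, commutator_mem hH h' h⟩

end Cfsg.Agent.Classification.IdL3.LocalFive
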