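import Cfsg.Agent.Classification.IdL3.LocalThree

/-!
The relation `Rb φ n` implies `Rb φ n⁻¹` (for groups of order divisible by `q³`).
-/

set_option autoImplicit false
set_option linter.unusedSimpArgs false

namespace Cfsg.Agent.Classification.IdL3.LocalFour

open Matrix
open scoped MatrixGroups
open Cfsg.Agent.Classification.IdL3.Mat
open Cfsg.Agent.Classification.IdL3.MatTwo
open Cfsg.Agent.Classification.IdL3.MatThree
open Cfsg.Agent.Classification.IdL3.Setup
open Cfsg.Agent.Classification.IdL3.SetupTwo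
open Cfsg.Agent.Classification.IdL3.Core
open Cfsg.Agent.Classification.IdL3.Local
open Cfsg.Agent.Classification.IdL3.LocalTwo
open Cfsg.Agent.Classification.IdL3.LocalThree

section general

variable {G : Type*} [Group G]

theorem conj_of_odd {d u s : G} (hu : u * u = 1) (hs : s * s = 1) (hd : d = u * s) {j : ℕ}
    (ho : d ^ (2 * j + 1) = 1) : d ^ j * u * (d ^ j)⁻¹ = s := by
  have hui : u⁻¹ = u := inv_eq_of_mul_eq_one_left hu
  have hsi : s⁻¹ = s := inv_eq_of_mul_eq_one_left hs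
  have h1 : u * d * u⁻¹ = d⁻¹ := by
    rw [hd]
    calc u * (u * s) * u⁻¹ = (u * u) * s * u⁻¹ := by group
      _ = s⁻¹ * u⁻¹ := by rw [hu, one_mul, hsi]
      _ = (u * s)⁻¹ := by group
  have h2 : u * d ^ j * u⁻¹ = (d ^ j)⁻¹ := by
    have h3 : ∀ m : ℕ, u * d ^ m * u⁻¹ = (u * d * u⁻¹) ^ m := by
      intro m
      induction m with
      | zero => simp
      | succ m ih => rw [pow_succ, pow_succ, ← ih]; group
    rw [h3, h1, inv_pow]
  have h3 : u * (d ^ j)⁻¹ = d ^ j * u := by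
    rw [← h2]
    calc u * (u * d ^ j * u⁻¹) = (u * u) * d ^ j * u⁻¹ := by group
      _ = d ^ j * u := by rw [hu, one_mul, hui]
  have h4 : d ^ j * d ^ j = d⁻¹ := by
    rw [eq_inv_iff_mul_eq_one, ← pow_add, ← pow_succ, ← ho]; congr 1; ring
  calc d ^ j * u * (d ^ j)⁻¹ = d ^ j * (u * (d ^ j)⁻¹) := by group
    _ = (d ^ j * d ^ j) * u := by rw [h3]; group
    _ = s := by
      rw [h4, hd]
      calc (u * s)⁻¹ * u = s⁻¹ * (u⁻¹ * u) := by group
        _ = s := by rw [hsi]; group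

/-- fixed points of a `p`-group normalising a nontrivial `p`-group. -/
theorem exists_fixed [Finite G] {p : ℕ} [Fact p.Prime] {Y V : Subgroup G} (hY : IsPGroup p Y)
    (hV : p ∣ Nat.card V) (hYV : ∀ y ∈ Y, ∀ v ∈ V, y * v * y⁻¹ ∈ V) :
    ∃ v ∈ V, v ≠ 1 ∧ ∀ y ∈ Y, y * v = v * y := by
  let _ := Lib.PGroupCoprimeAction.conjAction Y V hYV
  obtain ⟨v, hv, hv1⟩ := hY.exists_fixed_point_of_prime_dvd_card_of_fixed_point V hV (a := 1)
    (fun y => smul_one y)
  refine ⟨v, v.2, fun h => hv1 (Subtype.ext h.symm), fun y hy => ?_⟩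
  have h1 : y * (v : G) * y⁻¹ = v := congrArg Subtype.val (hv ⟨y, hy⟩)
  rw [mul_inv_eq_iff_eq_mul] at h1
  exact h1

end general

variable {F : Type*} [Field F] {G : Type*} [Group G] {φ : GL (Fin 2) F →* G} {n : G}

theorem Rb.cm (h : Rb φ n) : Cm (A φ) (B (cφ n φ)) := h

/-- the product of `A₀` and `B₁`. -/
def Va (h : Rb φ n) : Subgroup G := pr (A φ) (B (cφ n φ)) (Rb.cm h)

section va

variable (hH : Hyp φ n) (h : Rb φ n)

theorem A0_le_Va : A φ ≤ Va h := le_pr_left _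
theorem B1_le_Va : B (cφ n φ) ≤ Va h := le_pr_right _

theorem B_pow {p : ℕ} [CharP F p] {x : G} (hx : x ∈ B φ) : x ^ p = 1 := by
  rw [← A_fl] at hx; exact A_pow hx

theorem B_comm {x y : G} (hx : x ∈ B φ) (hy : y ∈ B φ) : x * y = y * x := by
  rw [← A_fl] at hx hy; exact A_comm hx hy

theorem Va_pow {p : ℕ} [CharP F p] {x : G} (hx : x ∈ Va h) : x ^ p = 1 :=
  pow_pr _ (fun _ hx => A_pow hx) (fun _ hx => B_pow hx) hx

theorem Va_pgroup {p : ℕ} [CharP F p] : IsPGroup p (Va h) := by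
  rintro ⟨x, hx⟩
  exact ⟨1, Subtype.ext (by show x ^ p ^ 1 = 1; rw [pow_one]; exact Va_pow h hx)⟩

theorem Va_comm {x y : G} (hx : x ∈ Va h) (hy : y ∈ Va h) : x * y = y * x := by
  refine comm_pr (Z := Va h) (Rb.cm h) ?_ ?_ x hx y hy
  · exact (comm_pr (Rb.cm h) (fun _ hx _ hy => A_comm hx hy) (Cm.symm (Rb.cm h))).symm
  · exact (comm_pr (Rb.cm h) (Rb.cm h) (fun _ hx _ hy => B_comm hx hy)).symm

include hH in
theorem Va_conj_Ht {g x : G} (hg : g ∈ Ht φ) (hx : x ∈ Va h) : g * x * g⁻¹ ∈ Va h := by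
  refine conj_pr (fun x hx => conj_A hg hx) (fun x hx => conj_B ?_ hx) hx
  rwa [hH.Ht_rot]

theorem card_B (hH : Hyp φ n) : Nat.card (B φ) = Nat.card F := by
  rw [← A_fl]; exact card_A hH.flip

include hH in
theorem card_Va [Finite F] : Nat.card (Va h) = Nat.card F * Nat.card F := by
  rw [Va, card_pr _ (fun x h0 h1 => inf_A0_B1 hH h0 h1), card_A hH, card_B hH.rot]

theorem B1_le_core (p : ℕ) [Fact p.Prime] [CharP F p] {K : Subgroup G} (hH : Hyp φ n)
    (hK : Core φ (Subgroup.centralizer (A φ : Set G)) K) (h : Rb φ n) : B (cφ n φ) ≤ K := by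
  intro x hx
  rw [hK.mem]
  refine ⟨Subgroup.mem_centralizer_iff.mpr fun y hy => h y hy x hx, ?_⟩
  exact Odd.of_dvd_nat (odd_p (p := p) hH) (orderOf_dvd_of_pow_eq_one (B_pow hx))

theorem Va_le_core (p : ℕ) [Fact p.Prime] [CharP F p] {K : Subgroup G} (hH : Hyp φ n)
    (hK : Core φ (Subgroup.centralizer (A φ : Set G)) K) (h : Rb φ n) : Va h ≤ K := by
  rintro _ ⟨a, ha, b, hb, rfl⟩
  exact K.mul_mem (A_le_core p hH hK ha) (B1_le_core p hH hK h hb)

/-- `p`-elements of `K ∩ C(t₁)` lie in `B₁`, if `B₁ ≤ K`. -/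
theorem mem_B1_of_pelt (p : ℕ) [Fact p.Prime] [CharP F p] [Finite G] [Finite F] {K : Subgroup G}
    (hH : Hyp φ n) (hK : Core φ (Subgroup.centralizer (A φ : Set G)) K) (h : Rb φ n) {u : G}
    (hu : u ∈ K) (hc : u * (n * tt φ * n⁻¹) = (n * tt φ * n⁻¹) * u) {k : ℕ}
    (hk : u ^ p ^ k = 1) : u ∈ B (cφ n φ) := by
  set M : Subgroup G := K ⊓ Subgroup.centralizer {n * tt φ * n⁻¹} with hM
  obtain ⟨x, hx, g, hg, rfl⟩ := borel_of_not_mem hH.rot.flip M (by
      intro m hm
      rw [tt_fl, tt_cφ]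
      exact (Subgroup.mem_centralizer_singleton_iff.mp hm.2)) (by
      intro hm
      rw [tt_fl, tt_cφ] at hm
      have h1 : orderOf (n * tt φ * n⁻¹) ∣ 2 := by
        apply orderOf_dvd_of_pow_eq_one
        rw [pow_two]; exact hH.pair.sq
      have h2 := ((hK.mem _).mp hm.1).2
      have h3 : orderOf (n * tt φ * n⁻¹) = 1 := by
        rcases (Nat.dvd_prime Nat.prime_two).mp h1 with h | h
        · exact h
        · rw [h] at h2; exact absurd h2 (by decide)
      rw [orderOf_eq_one_iff] at h3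
      apply hH.tt_ne
      have : tt φ = n⁻¹ * (n * tt φ * n⁻¹) * n := by group
      rw [this, h3]; group) (by
      intro x hx
      rw [A_fl] at hx
      refine ⟨B1_le_core p hH hK h hx, Subgroup.mem_centralizer_singleton_iff.mpr ?_⟩
      exact tt_comm_B hx) (m := u) ⟨hu, Subgroup.mem_centralizer_singleton_iff.mpr hc⟩
  have h1 := borel_pelt hH.rot.flip hx hg hk
  rw [h1, mul_one, ← A_fl]
  exact hx

/-- `Va` is a Sylow subgroup of `K`. -/
theorem Va_sylow (p : ℕ) [Fact p.Prime] [CharP F p] [Finite G] [Finite F] {K : Subgroup G}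
    (hH : Hyp φ n) (hK : Core φ (Subgroup.centralizer (A φ : Set G)) K) (h : Rb φ n)
    (hna : ¬ Ra φ n) (hnb : ¬ Rb φ n⁻¹) :
    ∃ T : Sylow p K, (T : Subgroup K).map K.subtype = Va h := by
  obtain ⟨S, hSyl, hSD, hAS⟩ := exists_inv_sylow (p := p) hK (Va_le_core p hH hK h) (Va_pgroup h)
    (fun b hb u hu => Va_conj_Ht hH h (Dv_le_Ht hb) hu)
  obtain ⟨x, hx, hx1⟩ := exists_A_ne hH
  have hSK := sylow_le hSyl
  have hSV : S ≤ Va h := by
    refine le_of_D hH (odd_of_sylow hK.odd hSK) hSD ?_ ?_ ?_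
    · intro u hu hc
      obtain ⟨k, hk⟩ := sylow_pelt hSyl hu
      have h1 := hK.le (hSK hu)
      exact A0_le_Va h (mem_A_of_pelt hH hx hx1 hc
        (Subgroup.mem_centralizer_iff.mp h1 x hx).symm hk)
    · intro u hu hc
      obtain ⟨k, hk⟩ := sylow_pelt hSyl hu
      exact B1_le_Va h (mem_B1_of_pelt p hH hK h (hSK hu) hc hk)
    · intro u hu hc
      obtain ⟨k, hk⟩ := sylow_pelt hSyl hu
      by_cases hu1 : u = 1
      · rw [hu1]; exact (Va h).one_mem
      · have hc' : u * (n⁻¹ * tt φ * n⁻¹⁻¹) = n⁻¹ * tt φ * n⁻¹⁻¹ * u := by rw [inv_inv]; exact hc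
        rcases rel_of_pelt hH.inv hK (hSK hu) hu1 hk hc' with h | h
        · have := Ra.inv hH.inv h
          rw [inv_inv] at this
          exact absurd this hna
        · exact absurd h hnb
  rw [← le_antisymm hSV hAS]; exact hSyl

/-- The centralizer of `Va` has odd order. -/
theorem odd_cent_Va (p : ℕ) [hp : Fact p.Prime] [CharP F p] [Finite G] [Finite F] {K : Subgroup G}
    (hH : Hyp φ n) (hK : Core φ (Subgroup.centralizer (A φ : Set G)) K) (h : Rb φ n) :
    Odd (Nat.card (Subgroup.centralizer (Va h : Set G))) := by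
  rw [← Nat.not_even_iff_odd, even_iff_two_dvd]
  intro h2
  obtain ⟨⟨u, hu⟩, ho⟩ := exists_prime_orderOf_dvd_card' 2 h2
  rw [Subgroup.orderOf_mk] at ho
  have hle : Subgroup.centralizer (Va h : Set G) ≤ Subgroup.centralizer (A φ : Set G) :=
    Subgroup.centralizer_le (A0_le_Va h)
  obtain ⟨c, hc, hcu⟩ := hK.inv u (hle hu) (by rw [← pow_two, ← ho, pow_orderOf_eq_one])
    (by rintro rfl; rw [orderOf_one] at ho; exact absurd ho (by decide))
  obtain ⟨x, hx, hx1⟩ := exists_A_ne hH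
  have key : ∀ v ∈ Va h, c * v * c⁻¹ ∈ A φ := by
    intro v hv
    have hvC : v ∈ Subgroup.centralizer (A φ : Set G) :=
      hK.le (Va_le_core p hH hK h hv)
    have h1 : c * v * c⁻¹ ∈ Subgroup.centralizer (A φ : Set G) :=
      Subgroup.mul_mem _ (Subgroup.mul_mem _ hc hvC) (Subgroup.inv_mem _ hc)
    refine mem_A_of_pelt (p := p) (k := 1) hH hx hx1 ?_
      (Subgroup.mem_centralizer_iff.mp h1 x hx).symm ?_
    · rw [← hcu]
      have h3 := Subgroup.mem_centralizer_iff.mp hu v hv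
      have h4 : c * v * c⁻¹ * (c * u * c⁻¹) = c * (v * u) * c⁻¹ := by group
      rw [h4, h3]; group
    · rw [pow_one, conj_pow, Va_pow h hv]; group
  have hcard : Nat.card (Va h) ≤ Nat.card (A φ) := by
    refine Nat.card_le_card_of_injective (fun v : Va h => (⟨c * v * c⁻¹, key v v.2⟩ : A φ)) ?_
    intro v w e
    have e1 : c * (v : G) * c⁻¹ = c * w * c⁻¹ := congrArg Subtype.val e
    exact Subtype.ext (mul_left_cancel (mul_right_cancel e1))
  rw [card_Va hH h, card_A hH] at hcard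
  have h1 : 1 < Nat.card F := Finite.one_lt_card
  nlinarith

theorem t2_inverts (hH : Hyp φ n) (h : Rb φ n) {v : G} (hv : v ∈ Va h) :
    (n⁻¹ * tt φ * n) * v * (n⁻¹ * tt φ * n)⁻¹ = v⁻¹ := by
  obtain ⟨a, ha, b, hb, rfl⟩ := hv
  have h4 := Pair.inverts_A hH.pair.symm ha
  have h5 := Pair.inverts_B (pair_rot hH) hb
  have e : ∀ s : G, s * (a * b) * s⁻¹ = (s * a * s⁻¹) * (s * b * s⁻¹) := by
    intro s; group
  rw [e, h4, h5, h a ha b hb]; group

/-- `N(V) = C(V) (N(V) ∩ C(t₂))`. -/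
theorem norm_dec (p : ℕ) [hp : Fact p.Prime] [CharP F p] [Finite G] [Finite F] {K : Subgroup G}
    (hH : Hyp φ n) (hK : Core φ (Subgroup.centralizer (A φ : Set G)) K) (h : Rb φ n) {g : G}
    (hg : g ∈ Subgroup.normalizer (Va h : Set G)) :
    ∃ c ∈ Subgroup.centralizer (Va h : Set G), ∃ m ∈ Subgroup.normalizer (Va h : Set G),
      m * (n⁻¹ * tt φ * n) = (n⁻¹ * tt φ * n) * m ∧ g = c * m := by
  set s := n⁻¹ * tt φ * n with hs
  have hss : s * s = 1 := hH.pair.symm.sq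
  set u := g * s * g⁻¹ with hu
  have huu : u * u = 1 := by
    have : u * u = g * (s * s) * g⁻¹ := by rw [hu]; group
    rw [this, hss]; group
  have hsi : s⁻¹ = s := inv_eq_of_mul_eq_one_left hss
  have hd : u * s ∈ Subgroup.centralizer (Va h : Set G) := by
    rw [Subgroup.mem_centralizer_iff]
    intro v hv
    have h1 := t2_inverts hH h hv
    rw [← hs] at h1
    have hv' : g⁻¹ * v * g ∈ Va h := by
      have := (Subgroup.mem_normalizer_iff.mp hg (g⁻¹ * v * g)).mpr (by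
        have : g * (g⁻¹ * v * g) * g⁻¹ = v := by group
        rw [this]; exact hv)
      exact this
    have h2 := t2_inverts hH h hv'
    rw [← hs] at h2
    have h3 : u * v * u⁻¹ = v⁻¹ := by
      have : u * v * u⁻¹ = g * (s * (g⁻¹ * v * g) * s⁻¹) * g⁻¹ := by rw [hu]; group
      rw [this, h2]; group
    have h5 : u * s * v * (u * s)⁻¹ = v := by
      have : u * s * v * (u * s)⁻¹ = u * (s * v * s⁻¹) * u⁻¹ := by group
      rw [this, h1]
      have h6 : u * v⁻¹ * u⁻¹ = (u * v * u⁻¹)⁻¹ := by group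
      rw [h6, h3, inv_inv]
    rw [mul_inv_eq_iff_eq_mul] at h5
    exact h5.symm
  have hodd := odd_cent_Va p hH hK h
  have hod : Odd (orderOf (u * s)) := by
    have h1 := orderOf_dvd_natCard (⟨u * s, hd⟩ : Subgroup.centralizer (Va h : Set G))
    rw [Subgroup.orderOf_mk] at h1
    exact Odd.of_dvd_nat hodd h1
  obtain ⟨j, hj⟩ := hod
  have h7 := conj_of_odd (d := u * s) huu hss rfl (j := j) (by rw [← hj, pow_orderOf_eq_one])
  set c := (u * s) ^ j with hc
  have hcC : c ∈ Subgroup.centralizer (Va h : Set G) := Subgroup.pow_mem _ hd j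
  refine ⟨c⁻¹, Subgroup.inv_mem _ hcC, c * g, ?_, ?_, by group⟩
  · refine Subgroup.mul_mem _ ?_ hg
    refine Subgroup.mem_normalizer_fintype fun v hv => ?_
    have h8 := Subgroup.mem_centralizer_iff.mp hcC v hv
    rw [← h8, mul_inv_cancel_right]; exact hv
  · rw [← mul_inv_eq_iff_eq_mul]
    refine Eq.trans ?_ h7
    rw [hu]; group

/-- `Va`-centralizing `p`-elements lie in `Va`. -/
theorem mem_Va_of_cent (p : ℕ) [hp : Fact p.Prime] [CharP F p] [Finite G] [Finite F]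
    {K : Subgroup G} (hH : Hyp φ n) (hK : Core φ (Subgroup.centralizer (A φ : Set G)) K)
    (h : Rb φ n) (hna : ¬ Ra φ n) (hnb : ¬ Rb φ n⁻¹) {g : G}
    (hg : g ∈ Subgroup.centralizer (Va h : Set G)) {k : ℕ} (hk : g ^ p ^ k = 1) : g ∈ Va h := by
  have hgK : g ∈ K := by
    rw [hK.mem]
    refine ⟨Subgroup.centralizer_le (A0_le_Va h) hg, ?_⟩
    exact Odd.of_dvd_nat ((odd_p (p := p) hH).pow) (orderOf_dvd_of_pow_eq_one hk)
  obtain ⟨T, hT⟩ := Va_sylow p hH hK h hna hnb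
  have hz : IsPGroup p (Subgroup.zpowers (⟨g, hgK⟩ : K)) := by
    rintro ⟨x, m, rfl⟩
    refine ⟨k, Subtype.ext (Subtype.ext ?_)⟩
    show (g ^ m) ^ p ^ k = 1
    rw [← zpow_natCast, ← _root_.zpow_mul, mul_comm, _root_.zpow_mul, zpow_natCast, hk,
      _root_.one_zpow]
  have h1 : (⟨g, hgK⟩ : K) ∈ Subgroup.normalizer ((T : Subgroup K) : Set K) := by
    refine Subgroup.mem_normalizer_fintype fun x hx => ?_
    have h2 : (x : G) ∈ Va h := by rw [← hT]; exact ⟨x, hx, rfl⟩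
    have h3 := Subgroup.mem_centralizer_iff.mp hg _ h2
    have h4 : (⟨g, hgK⟩ : K) * x * (⟨g, hgK⟩ : K)⁻¹ = x := by
      apply Subtype.ext
      show g * (x : G) * g⁻¹ = x
      rw [← h3, mul_inv_cancel_right]
    rw [h4]; exact hx
  have h2 : (⟨g, hgK⟩ : K) ∈ Subgroup.zpowers (⟨g, hgK⟩ : K) ⊓
      Subgroup.normalizer (T : Set K) := ⟨Subgroup.mem_zpowers _, h1⟩
  rw [hz.inf_normalizer_sylow] at h2
  rw [← hT]
  exact ⟨_, h2.2, rfl⟩

/-- a nontrivial `p`-element of `N(V) ∩ C(t₂)`. -/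
theorem exists_pelt (p : ℕ) [hp : Fact p.Prime] [CharP F p] [Finite G] [Finite F]
    {K : Subgroup G} (hH : Hyp φ n) (hK : Core φ (Subgroup.centralizer (A φ : Set G)) K)
    (h : Rb φ n) (hna : ¬ Ra φ n) (hnb : ¬ Rb φ n⁻¹)
    (hcard : Nat.card F ^ 3 ∣ Nat.card G) :
    ∃ y ∈ Subgroup.normalizer (Va h : Set G),
      y * (n⁻¹ * tt φ * n) = (n⁻¹ * tt φ * n) * y ∧ y ≠ 1 ∧ ∃ k : ℕ, y ^ p ^ k = 1 := by
  -- a Sylow subgroup above `V`
  obtain ⟨P, hP⟩ := (Va_pgroup h (p := p)).exists_le_sylow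
  have hF : ∃ f : ℕ, Nat.card F = p ^ f := by
    have := Fintype.ofFinite F
    obtain ⟨m, _, hm⟩ := FiniteField.card F p
    exact ⟨m, by rw [Nat.card_eq_fintype_card, hm]⟩
  obtain ⟨f, hf⟩ := hF
  have hPc : Nat.card F ^ 3 ∣ Nat.card P := by
    rw [hf, ← pow_mul] at hcard ⊢
    exact P.pow_dvd_card_of_pow_dvd_card hcard
  have h1F : 1 < Nat.card F := Finite.one_lt_card
  have hne : Va h ≠ (P : Subgroup G) := by
    intro e
    have h1 : Nat.card (Va h) = Nat.card P := by rw [e]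
    rw [card_Va hH h] at h1
    have h2 := Nat.le_of_dvd Nat.card_pos hPc
    rw [← h1] at h2
    have h3 : Nat.card F ^ 3 = Nat.card F * (Nat.card F * Nat.card F) := by ring
    rw [h3] at h2
    nlinarith [Nat.mul_pos (by omega : 0 < Nat.card F) (by omega : 0 < Nat.card F)]
  obtain ⟨g, hgP, hgV, hgn⟩ := exists_mem_normalizer P.isPGroup' hP hne
  obtain ⟨k, hk⟩ := P.isPGroup' ⟨g, hgP⟩
  have hk' : g ^ p ^ k = 1 := congrArg Subtype.val hk
  have hgN : g ∈ Subgroup.normalizer (Va h : Set G) := Subgroup.mem_normalizer_iff.mpr hgn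
  obtain ⟨c, hc, m, hm, hmt, hgcm⟩ := norm_dec p hH hK h hgN
  set M : Subgroup G := Subgroup.normalizer (Va h : Set G) ⊓
    Subgroup.centralizer {n⁻¹ * tt φ * n} with hM
  by_cases hpM : p ∣ Nat.card M
  · obtain ⟨⟨y, hy⟩, hyo⟩ := exists_prime_orderOf_dvd_card' p hpM
    rw [Subgroup.orderOf_mk] at hyo
    refine ⟨y, hy.1, Subgroup.mem_centralizer_singleton_iff.mp hy.2, ?_, 1, ?_⟩
    · rintro rfl
      rw [orderOf_one] at hyo
      exact hp.out.one_lt.ne hyo
    · rw [pow_one, ← hyo, pow_orderOf_eq_one]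
  · exfalso
    apply hgV
    refine mem_Va_of_cent p hH hK h hna hnb ?_ hk'
    have hmM : m ∈ M := ⟨hm, Subgroup.mem_centralizer_singleton_iff.mpr hmt⟩
    -- `C(V)` is normalised by `N(V)`
    have hCN : ∀ x ∈ Subgroup.normalizer (Va h : Set G),
        ∀ c ∈ Subgroup.centralizer (Va h : Set G), x * c * x⁻¹ ∈
          Subgroup.centralizer (Va h : Set G) := by
      intro x hx c hc
      rw [Subgroup.mem_centralizer_iff]
      intro v hv
      have hv' : x⁻¹ * v * x ∈ Va h := by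
        refine (Subgroup.mem_normalizer_iff.mp hx (x⁻¹ * v * x)).mpr ?_
        have : x * (x⁻¹ * v * x) * x⁻¹ = v := by group
        rw [this]; exact hv
      have h3 := Subgroup.mem_centralizer_iff.mp hc _ hv'
      have h4 : v * (x * c * x⁻¹) = x * (x⁻¹ * v * x * c) * x⁻¹ := by group
      rw [h4, h3]; group
    have hpow : ∀ j : ℕ, ∃ c' ∈ Subgroup.centralizer (Va h : Set G), g ^ j = c' * m ^ j := by
      intro j
      induction j with
      | zero => exact ⟨1, Subgroup.one_mem _, by simp⟩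
      | succ j ih =>
        obtain ⟨c', hc', e⟩ := ih
        refine ⟨c' * (m ^ j * c * (m ^ j)⁻¹), Subgroup.mul_mem _ hc'
          (hCN _ (Subgroup.pow_mem _ hm j) _ hc), ?_⟩
        rw [pow_succ, e, hgcm, pow_succ]; group
    obtain ⟨c', hc', e⟩ := hpow (Nat.card M)
    have h5 : m ^ Nat.card M = 1 := by
      have : (⟨m, hmM⟩ : M) ^ Nat.card M = 1 := pow_card_eq_one'
      exact congrArg Subtype.val this
    rw [h5, mul_one] at e
    have hcop : Nat.Coprime (Nat.card M) (orderOf g) := by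
      refine Nat.Coprime.coprime_dvd_right (orderOf_dvd_of_pow_eq_one hk') ?_
      exact Nat.Coprime.pow_right k ((Nat.Prime.coprime_iff_not_dvd hp.out).mpr hpM).symm
    obtain ⟨i, hi⟩ := exists_pow_eq_self_of_coprime hcop
    rw [← hi, e]
    exact Subgroup.pow_mem _ hc' i

include hH in
/-- a `p`-group normalising `Va` and normalised by `Ht` centralises `A₀` or `B₁`. -/
theorem cent_of_norm (p : ℕ) [hp : Fact p.Prime] [CharP F p] [Finite G] [Finite F]
    {Y : Subgroup G} (hY : IsPGroup p Y) (hYV : Y ≤ Subgroup.normalizer (Va h : Set G))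
    (hHY : ∀ g ∈ Ht φ, ∀ y ∈ Y, g * y * g⁻¹ ∈ Y) : Cm (A φ) Y ∨ Cm (B (cφ n φ)) Y := by
  have hpV : p ∣ Nat.card (Va h) := by
    rw [card_Va hH h]; exact dvd_mul_of_dvd_left (dvd_card_F p) _
  obtain ⟨v, hv, hv1, hvY⟩ := exists_fixed hY hpV (fun y hy v hv =>
    (Subgroup.mem_normalizer_iff.mp (hYV hy) v).mp hv)
  -- the centralizer of `Y` is normalised by `Ht`
  have hCH : ∀ g ∈ Ht φ, ∀ x ∈ Subgroup.centralizer (Y : Set G),
      g * x * g⁻¹ ∈ Subgroup.centralizer (Y : Set G) := by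
    intro g hg x hx
    rw [Subgroup.mem_centralizer_iff] at hx ⊢
    intro y hy
    have h1 : g⁻¹ * y * g ∈ Y := by
      have := hHY g⁻¹ ((Ht φ).inv_mem hg) y hy
      rwa [inv_inv] at this
    have h3 := hx _ h1
    have h4 : y * (g * x * g⁻¹) = g * (g⁻¹ * y * g * x) * g⁻¹ := by group
    rw [h4, h3]; group
  have hvC : v ∈ Subgroup.centralizer (Y : Set G) :=
    Subgroup.mem_centralizer_iff.mpr fun y hy => hvY y hy
  obtain ⟨a, ha, b, hb, rfl⟩ := hv
  have ht : tt φ * (a * b) * (tt φ)⁻¹ = a * b⁻¹ := by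
    have h1 := Pair.inverts_B (pair_rot hH).symm hb
    have h2 : tt φ * a * (tt φ)⁻¹ = a := by rw [← tt_comm_A ha, mul_inv_cancel_right]
    have h3 : tt φ * (a * b) * (tt φ)⁻¹ = (tt φ * a * (tt φ)⁻¹) * (tt φ * b * (tt φ)⁻¹) := by
      group
    rw [h3, h2, h1]
  have hvC' := hCH _ tt_mem_Ht _ hvC
  rw [ht] at hvC'
  have hab : a * b = b * a := h a ha b hb
  by_cases ha1 : a = 1
  · right
    have hbC : b ∈ Subgroup.centralizer (Y : Set G) := by rwa [ha1, one_mul] at hvC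
    have hb1 : b ≠ 1 := by rintro rfl; exact hv1 (by rw [ha1, one_mul])
    have hle := B_le_of_mem (φ := cφ n φ) (K := Subgroup.centralizer (Y : Set G))
      (by rw [hH.Ht_rot]; exact hCH) hb hbC hb1
    intro x hx y hy
    exact (Subgroup.mem_centralizer_iff.mp (hle hx) y hy).symm
  · left
    have h1 : a * a ∈ Subgroup.centralizer (Y : Set G) := by
      have h2 : a * a = (a * b) * (a * b⁻¹) := by
        calc a * a = a * (a * b) * b⁻¹ := by group
          _ = a * (b * a) * b⁻¹ := by rw [hab]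
          _ = (a * b) * (a * b⁻¹) := by group
      rw [h2]; exact Subgroup.mul_mem _ hvC hvC'
    have h2 : a * a ≠ 1 := by
      intro h3
      exact ha1 (A_self_inv hH ha (eq_inv_of_mul_eq_one_left h3))
    have hle := A_le_of_mem (φ := φ) (K := Subgroup.centralizer (Y : Set G))
      hCH ((A φ).mul_mem ha ha) h1 h2
    intro x hx y hy
    exact (Subgroup.mem_centralizer_iff.mp (hle hx) y hy).symm

end va

/-- `Rb φ n` implies `Rb φ n⁻¹`. -/
theorem Rb_both [Finite G] [Finite F] (hH : Hyp φ n) (h : Rb φ n) (hna : ¬ Ra φ n)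
    (hcard : Nat.card F ^ 3 ∣ Nat.card G) : Rb φ n⁻¹ := by
  by_contra hnb
  obtain ⟨p, hp'⟩ := CharP.exists F
  have hpp : Fact p.Prime :=
    ⟨(CharP.char_is_prime_or_zero F p).resolve_right (CharP.char_ne_zero_of_finite F p)⟩
  obtain ⟨x, hx, hx1⟩ := exists_A_ne hH
  obtain ⟨K, hK⟩ := exists_core (p := p) hH (Y := (A φ : Set G)) subset_rfl hx hx1
  obtain ⟨y, hyN, hyt, hy1, k, hk⟩ := exists_pelt p hH hK h hna hnb hcard
  set M : Subgroup G := Subgroup.normalizer (Va h : Set G) ⊓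
    Subgroup.centralizer {n⁻¹ * tt φ * n} with hM
  have hyM : y ∈ M := ⟨hyN, Subgroup.mem_centralizer_singleton_iff.mpr hyt⟩
  have hHN : Ht φ ≤ Subgroup.normalizer (Va h : Set G) := fun g hg =>
    Subgroup.mem_normalizer_fintype fun v hv => Va_conj_Ht hH h hg hv
  have hHM : Ht φ ≤ M := fun g hg => ⟨hHN hg, Subgroup.mem_centralizer_singleton_iff.mpr
    (Ht_comm hg hH.pair.symm.mem)⟩
  have hMH : ∀ g ∈ Ht φ, ∀ m ∈ M, g * m * g⁻¹ ∈ M := fun g hg m hm =>
    M.mul_mem (M.mul_mem (hHM hg) hm) (M.inv_mem (hHM hg))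
  have hcase := torus_G hH.rot' M (by
      intro m hm
      rw [tt_cφ, inv_inv]
      exact Subgroup.mem_centralizer_singleton_iff.mp hm.2) (by
      rw [hH.Ht_rot']; exact hMH) hyM hy1 hk
  rcases hcase with h1 | h1
  · have hle : A (cφ n⁻¹ φ) ≤ Subgroup.normalizer (Va h : Set G) := fun z hz => (h1 hz).1
    rcases cent_of_norm hH h p A_pgroup hle (by
      intro g hg z hz
      exact conj_A (by rwa [hH.Ht_rot']) hz) with h2 | h2
    · -- `Ra φ n⁻¹`
      apply hna
      have h3 : Ra φ n⁻¹ := h2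
      have := Ra.inv hH.inv h3
      rwa [inv_inv] at this
    · apply hnb
      have h3 := (Cm.cj h2 n).symm
      rw [cj_n_A2, cj_n_B1 hH] at h3
      exact h3
  · have hle : B (cφ n⁻¹ φ) ≤ Subgroup.normalizer (Va h : Set G) := fun z hz => (h1 hz).1
    rcases cent_of_norm hH h p B_pgroup hle (by
      intro g hg z hz
      exact conj_B (by rwa [hH.Ht_rot']) hz) with h2 | h2
    · exact hnb h2
    · apply hna
      have h3 := Cm.cj h2 n
      rw [cj_n_B2, cj_n_B1 hH] at h3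
      have h4 := (Cm.cj h3 (wv φ)).symm
      rw [cj_wv_B, cj_w_B2 hH] at h4
      exact h4

end Cfsg.Agent.Classification.IdL3.LocalFour
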