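import Cfsg.Agent.Classification.IdL3.LocalTwo

/-!
Exclusion of the relation `Ra`.
-/

set_option autoImplicit false
set_option linter.unusedSimpArgs false

namespace Cfsg.Agent.Classification.IdL3.LocalThree

open Matrix
open scoped MatrixGroups
open Cfsg.Agent.Classification.IdL3.Mat
open Cfsg.Agent.Classification.IdL3.MatTwo
open Cfsg.Agent.Classification.IdL3.MatThree
open Cfsg.Agent.Classification.IdL3.Setup
open Cfsg.Agent.Classification.IdL3.SetupTwo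
open Cfsg.Agent.Classification.IdL3.Core
open Cfsg.Agent.Classification.IdL3.Local
open Cfsg.Agent.Classification.IdL3.LocalTwo

variable {F : Type*} [Field F] {G : Type*} [Group G] {φ : GL (Fin 2) F →* G} {n : G}

/-- product of two commuting subgroups. -/
def pr (X Y : Subgroup G) (h : Cm X Y) : Subgroup G where
  carrier := {g | ∃ x ∈ X, ∃ y ∈ Y, g = x * y}
  mul_mem' := by
    rintro _ _ ⟨x, hx, y, hy, rfl⟩ ⟨x', hx', y', hy', rfl⟩
    refine ⟨x * x', X.mul_mem hx hx', y * y', Y.mul_mem hy hy', ?_⟩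
    have := h x' hx' y hy
    calc x * y * (x' * y') = x * (y * x') * y' := by group
      _ = x * x' * (y * y') := by rw [← this]; group
  one_mem' := ⟨1, X.one_mem, 1, Y.one_mem, by simp⟩
  inv_mem' := by
    rintro _ ⟨x, hx, y, hy, rfl⟩
    refine ⟨x⁻¹, X.inv_mem hx, y⁻¹, Y.inv_mem hy, ?_⟩
    rw [h x hx y hy]; group

variable {X Y : Subgroup G}

theorem mem_pr {h : Cm X Y} {g : G} : g ∈ pr X Y h ↔ ∃ x ∈ X, ∃ y ∈ Y, g = x * y := Iff.rfl

theorem le_pr_left (h : Cm X Y) : X ≤ pr X Y h := fun x hx => ⟨x, hx, 1, Y.one_mem, (mul_one x).symm⟩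

theorem le_pr_right (h : Cm X Y) : Y ≤ pr X Y h := fun x hx => ⟨1, X.one_mem, x, hx, (one_mul x).symm⟩

theorem conj_pr {h : Cm X Y} {g : G} (hX : ∀ x ∈ X, g * x * g⁻¹ ∈ X)
    (hY : ∀ x ∈ Y, g * x * g⁻¹ ∈ Y) {z : G} (hz : z ∈ pr X Y h) : g * z * g⁻¹ ∈ pr X Y h := by
  obtain ⟨x, hx, y, hy, rfl⟩ := hz
  exact ⟨_, hX x hx, _, hY y hy, by group⟩

theorem card_pr (h : Cm X Y) (hXY : ∀ x ∈ X, x ∈ Y → x = 1) :
    Nat.card (pr X Y h) = Nat.card X * Nat.card Y := by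
  rw [← Nat.card_prod]
  symm
  refine Nat.card_congr (Equiv.ofBijective (fun a : X × Y => (⟨(a.1 : G) * a.2, a.1, a.1.2, a.2, a.2.2,
    rfl⟩ : pr X Y h)) ⟨?_, ?_⟩)
  · rintro ⟨⟨x, hx⟩, ⟨y, hy⟩⟩ ⟨⟨x', hx'⟩, ⟨y', hy'⟩⟩ e
    have e1 : x * y = x' * y' := congrArg Subtype.val e
    have e2 : x'⁻¹ * x = y' * y⁻¹ := by
      rw [inv_mul_eq_iff_eq_mul, ← mul_assoc, eq_mul_inv_iff_mul_eq, e1]
    have e3 := hXY _ (X.mul_mem (X.inv_mem hx') hx) (by
      rw [e2]; exact Y.mul_mem hy' (Y.inv_mem hy))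
    have e4 : x = x' := by rw [inv_mul_eq_one] at e3; exact e3.symm
    have e5 : y' = y := by rw [e3] at e2; rw [← mul_inv_eq_one]; exact e2.symm
    subst e4; subst e5; rfl
  · rintro ⟨_, x, hx, y, hy, rfl⟩
    exact ⟨(⟨x, hx⟩, ⟨y, hy⟩), rfl⟩

theorem pow_pr (h : Cm X Y) {m : ℕ} (hX : ∀ x ∈ X, x ^ m = 1) (hY : ∀ x ∈ Y, x ^ m = 1) {g : G}
    (hg : g ∈ pr X Y h) : g ^ m = 1 := by
  obtain ⟨x, hx, y, hy, rfl⟩ := hg
  have hc : Commute x y := h x hx y hy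
  rw [hc.mul_pow, hX x hx, hY y hy, one_mul]

theorem comm_pr (h : Cm X Y) {Z : Subgroup G} (hX : Cm X Z) (hY : Cm Y Z) : Cm (pr X Y h) Z := by
  rintro _ ⟨x, hx, y, hy, rfl⟩ z hz
  rw [mul_assoc, hY y hy z hz, ← mul_assoc, hX x hx z hz, mul_assoc]

theorem eq_one_of_inv {p : ℕ} (ho : Odd p) {x : G} (hp : x ^ p = 1) (h : x = x⁻¹) : x = 1 := by
  have h2 : x * x = 1 := by
    nth_rewrite 2 [h]; exact mul_inv_cancel x
  obtain ⟨m, rfl⟩ := ho
  rwa [pow_succ, pow_mul, pow_two, h2, one_pow, one_mul] at hp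

/-- involution of the rotated configuration. -/
theorem pair_rot (hH : Hyp φ n) : Pair (cφ n φ) (n⁻¹ * tt φ * n) (tt φ) := by
  have h := hH.rot.pair
  rw [tt_cφ, hH.n_t1] at h
  have h3 : n⁻¹ * (n * tt φ * n⁻¹) * n = tt φ := by group
  rwa [h3] at h

theorem pair_rot' (hH : Hyp φ n) : Pair (cφ n⁻¹ φ) (tt φ) (n * tt φ * n⁻¹) := by
  have h := pair_rot hH.inv
  rw [inv_inv] at h
  exact h.symm

/-- root elements are not their own inverses. -/
theorem A_self_inv (hH : Hyp φ n) {x : G} (h0 : x ∈ A φ) (h : x = x⁻¹) : x = 1 := by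
  obtain ⟨c, rfl⟩ := mem_A.mp h0
  rw [← map_inv, U_inv] at h
  have h4 := hH.U_inj h
  have h5 : (2 : F) * c = 0 := by linear_combination h4
  rw [(mul_eq_zero.mp h5).resolve_left hH.two, U_zero, map_one]

theorem inf_A0_A1 (hH : Hyp φ n) {x : G} (h0 : x ∈ A φ) (h1 : x ∈ A (cφ n φ)) : x = 1 := by
  have h2 := Pair.inverts_A (pair_rot hH).symm h1
  rw [← tt_comm_A h0, mul_inv_cancel_right] at h2
  exact A_self_inv hH h0 h2

theorem inf_A0_B1 (hH : Hyp φ n) {x : G} (h0 : x ∈ A φ) (h1 : x ∈ B (cφ n φ)) : x = 1 := by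
  have h2 := Pair.inverts_B (pair_rot hH).symm h1
  rw [← tt_comm_A h0, mul_inv_cancel_right] at h2
  exact A_self_inv hH h0 h2

theorem Ra.cm01 (h : Ra φ n) : Cm (A φ) (A (cφ n φ)) := h

theorem Ra.cm12 (hH : Hyp φ n) (h : Ra φ n) : Cm (A (cφ n φ)) (A (cφ n⁻¹ φ)) := by
  have := Ra.rot hH h
  unfold Ra at this
  rwa [hH.A_rot_rot] at this

theorem Ra.cm02 (hH : Hyp φ n) (h : Ra φ n) : Cm (A φ) (A (cφ n⁻¹ φ)) := Ra.inv hH h

/-- product of the three root groups. -/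
def Pa (hH : Hyp φ n) (h : Ra φ n) : Subgroup G :=
  pr (pr (A φ) (A (cφ n φ)) (Ra.cm01 h)) (A (cφ n⁻¹ φ))
    (comm_pr (Ra.cm01 h) (Ra.cm02 hH h) (Ra.cm12 hH h))

section ra

variable (hH : Hyp φ n) (h : Ra φ n)

theorem A0_le_Pa : A φ ≤ Pa hH h := (le_pr_left _).trans (le_pr_left _)
theorem A1_le_Pa : A (cφ n φ) ≤ Pa hH h := (le_pr_right _).trans (le_pr_left _)
theorem A2_le_Pa : A (cφ n⁻¹ φ) ≤ Pa hH h := le_pr_right _

theorem Pa_pow {p : ℕ} [CharP F p] {x : G} (hx : x ∈ Pa hH h) : x ^ p = 1 :=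
  pow_pr _ (fun _ hx => pow_pr _ (fun _ hx => A_pow hx) (fun _ hx => A_pow hx) hx)
    (fun _ hx => A_pow hx) hx

theorem Pa_comm_A {x y : G} (hx : x ∈ Pa hH h) (hy : y ∈ A φ) : x * y = y * x :=
  comm_pr _ (comm_pr _ (fun _ hx _ hy => A_comm hx hy) (Cm.symm h)) (Ra.cm02 hH h).symm x hx y hy

theorem Pa_conj_Ht {g x : G} (hg : g ∈ Ht φ) (hx : x ∈ Pa hH h) : g * x * g⁻¹ ∈ Pa hH h := by
  refine conj_pr (fun x hx => conj_pr (fun x hx => conj_A hg hx) (fun x hx => conj_A ?_ hx) hx)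
    (fun x hx => conj_A ?_ hx) hx
  · rwa [hH.Ht_rot]
  · rwa [hH.Ht_rot']

theorem Pa_conj_n {x : G} (hx : x ∈ Pa hH h) : n * x * n⁻¹ ∈ Pa hH h := by
  obtain ⟨_, ⟨a, ha, b, hb, rfl⟩, c, hc, rfl⟩ := hx
  have e : n * (a * b * c) * n⁻¹ = (n * a * n⁻¹) * (n * b * n⁻¹) * (n * c * n⁻¹) := by group
  rw [e]
  refine (Pa hH h).mul_mem ((Pa hH h).mul_mem (A1_le_Pa hH h ?_) (A2_le_Pa hH h ?_))
    (A0_le_Pa hH h ?_)
  · rw [← cj_n_A, mem_cj]
    have : n⁻¹ * (n * a * n⁻¹) * n = a := by group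
    rwa [this]
  · rw [← cj_n_A1 hH, mem_cj]
    have : n⁻¹ * (n * b * n⁻¹) * n = b := by group
    rwa [this]
  · rw [← cj_n_A2 (n := n), mem_cj]
    have : n⁻¹ * (n * c * n⁻¹) * n = c := by group
    rwa [this]

theorem card_Pa [Finite F] : Nat.card (Pa hH h) = Nat.card F * Nat.card F * Nat.card F := by
  rw [Pa, card_pr, card_pr, card_A hH, card_A hH.rot, card_A hH.rot']
  · intro x h0 h1
    exact inf_A0_A1 hH h0 h1
  · rintro _ ⟨a, ha, b, hb, rfl⟩ h2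
    have h3 := tt_comm_A h2
    rw [tt_cφ, inv_inv] at h3
    have h4 := Pair.inverts_A hH.pair.symm ha
    have h5 := Pair.inverts_A (pair_rot hH) hb
    have h6 := A_self_inv hH.rot' h2 (by
      have h7 : (n⁻¹ * tt φ * n) * (a * b) * (n⁻¹ * tt φ * n)⁻¹ = (a * b)⁻¹ := by
        have e : ∀ s : G, s * (a * b) * s⁻¹ = (s * a * s⁻¹) * (s * b * s⁻¹) := by
          intro s; group
        rw [e, h4, h5, h a ha b hb]; group
      rw [← h3, mul_inv_cancel_right] at h7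
      exact h7)
    exact h6

theorem Pa_inf_Ht {p : ℕ} [Fact p.Prime] [CharP F p] [Finite F] {x : G} (hx : x ∈ Pa hH h)
    (hx' : x ∈ Ht φ) : x = 1 := by
  refine Ht_pelt (p := p) (k := 1) hx' ?_
  rw [pow_one]; exact Pa_pow hH h hx

theorem n_inj_aux {p : ℕ} [Fact p.Prime] [CharP F p] [Finite F] {x x' g g' : G}
    (hx : x ∈ Pa hH h) (hx' : x' ∈ Pa hH h) (hg : g ∈ Ht φ) (hg' : g' ∈ Ht φ)
    (e : x * g = x' * g' * n) : False := by
  have h1 : x * (g * tt φ * g⁻¹) * x⁻¹ = x' * (g' * (n * tt φ * n⁻¹) * g'⁻¹) * x'⁻¹ := by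
    have e1 : x * (g * tt φ * g⁻¹) * x⁻¹ = (x * g) * tt φ * (x * g)⁻¹ := by group
    rw [e1, e]; group
  have h2 : g * tt φ * g⁻¹ = tt φ := by
    rw [mul_inv_eq_iff_eq_mul]; exact Ht_comm hg tt_mem_Ht
  have h3 : g' * (n * tt φ * n⁻¹) * g'⁻¹ = n * tt φ * n⁻¹ := by
    rw [mul_inv_eq_iff_eq_mul]; exact Ht_comm hg' hH.pair.mem
  rw [h2, h3] at h1
  -- `x t x⁻¹ t⁻¹ ∈ P`
  have h4 : x * (tt φ * x⁻¹ * (tt φ)⁻¹) ∈ Pa hH h :=
    (Pa hH h).mul_mem hx (Pa_conj_Ht hH h tt_mem_Ht ((Pa hH h).inv_mem hx))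
  have h5 : x' * (n * tt φ * n⁻¹ * x'⁻¹ * (n * tt φ * n⁻¹)⁻¹) ∈ Pa hH h :=
    (Pa hH h).mul_mem hx' (Pa_conj_Ht hH h hH.pair.mem ((Pa hH h).inv_mem hx'))
  have h6 : tt φ * (n * tt φ * n⁻¹)⁻¹ ∈ Pa hH h := by
    have e2 : tt φ * (n * tt φ * n⁻¹)⁻¹ =
        (x * (tt φ * x⁻¹ * (tt φ)⁻¹))⁻¹ * (x' * (n * tt φ * n⁻¹ * x'⁻¹ * (n * tt φ * n⁻¹)⁻¹)) := by
      have e3 : x' * (n * tt φ * n⁻¹ * x'⁻¹ * (n * tt φ * n⁻¹)⁻¹) =
          (x' * (n * tt φ * n⁻¹) * x'⁻¹) * (n * tt φ * n⁻¹)⁻¹ := by group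
      rw [e3, ← h1]; group
    rw [e2]
    exact (Pa hH h).mul_mem ((Pa hH h).inv_mem h4) h5
  have h7 := Pa_inf_Ht (p := p) hH h h6 ((Ht φ).mul_mem tt_mem_Ht ((Ht φ).inv_mem hH.pair.mem))
  have h8 : (n * tt φ * n⁻¹)⁻¹ = n * tt φ * n⁻¹ := inv_eq_of_mul_eq_one_left hH.pair.sq
  rw [h8, hH.pair.mul''] at h7
  apply hH.tt_ne
  have : tt φ = n * (n⁻¹ * tt φ * n) * n⁻¹ := by group
  rw [this, h7]; group

/-- elements of `Pa` commuting with `t` lie in `A φ`. -/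
theorem Pa_cent {p : ℕ} [Fact p.Prime] [CharP F p] [Finite F] {x : G} (hx : x ∈ Pa hH h)
    (h0 : x * tt φ = tt φ * x) : x ∈ A φ := by
  obtain ⟨y, hy, hy1⟩ := exists_A_ne hH
  refine mem_A_of_pelt (p := p) hH hy hy1 h0 (Pa_comm_A hH h hx hy) (k := 1) ?_
  rw [pow_one]; exact Pa_pow hH h hx

end ra

/-- an element of `A φ` normalising `B φ` is trivial. -/
theorem A_norm_B (hH : Hyp φ n) {x : G} (hx : x ∈ A φ) (h : ∀ y ∈ B φ, x * y * x⁻¹ ∈ B φ) :
    x = 1 := by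
  obtain ⟨c, rfl⟩ := mem_A.mp hx
  have h1 := h (φ (L 1)) (mem_B.mpr ⟨1, rfl⟩)
  obtain ⟨d, hd⟩ := mem_B.mp h1
  have h2 : (U c * L 1 * (U c)⁻¹) * L 1 = L 1 * (U c * L 1 * (U c)⁻¹) := by
    apply hH.comm_lift
    rw [map_mul, map_mul, map_inv, ← hd, ← map_mul, ← map_mul, Mat.L_mul, Mat.L_mul, add_comm]
  rw [U_inv] at h2
  have h3 := congrArg (fun k : GL (Fin 2) F => k.1 0 0) h2
  simp only [mul_val, L_00, L_01, L_10, L_11, U_00, U_01, U_10, U_11] at h3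
  have h4 : c * c = 0 := by linear_combination -h3
  rw [mul_self_eq_zero.mp h4, U_zero, map_one]

section count

variable (hH : Hyp φ n) (h : Ra φ n)

/-- the opposite Sylow subgroup -/
def Qa : Subgroup G := Pa hH.flip (Ra.flip hH h)

theorem norm_trivial [Finite G] [Finite F] {p : ℕ} [Fact p.Prime] [CharP F p] {u : G}
    (hu : u ∈ Pa hH h) (hun : u ∈ Subgroup.normalizer (Qa hH h : Set G)) : u = 1 := by
  set S : Subgroup G := Pa hH h ⊓ Subgroup.normalizer (Qa hH h : Set G) with hS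
  have hmem : ∀ v ∈ S, v * tt φ = tt φ * v → v = 1 := by
    intro v hv hvt
    have h1 := Pa_cent (p := p) hH h hv.1 hvt
    refine A_norm_B hH h1 ?_
    intro y hy
    have h2 : y ∈ Qa hH h := A0_le_Pa hH.flip (Ra.flip hH h) (by rwa [A_fl])
    have h3 := (Subgroup.mem_normalizer_iff.mp hv.2 y).mp h2
    have h4 := Pa_cent (p := p) hH.flip (Ra.flip hH h) h3 (by
      rw [tt_fl]
      have h5 : Commute y (tt φ) := tt_comm_B hy
      have h6 : Commute v (tt φ) := hvt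
      exact ((h6.mul_left h5).mul_left h6.inv_left))
    rwa [A_fl] at h4
  have hSn : ∀ v ∈ S, n⁻¹ * v * n ∈ S := by
    intro v hv
    have hn1 : n ∈ Subgroup.normalizer (Pa hH h : Set G) :=
      Subgroup.mem_normalizer_fintype fun x hx => Pa_conj_n hH h hx
    have hn2 : n ∈ Subgroup.normalizer (Qa hH h : Set G) :=
      Subgroup.mem_normalizer_fintype fun x hx => Pa_conj_n hH.flip (Ra.flip hH h) hx
    refine ⟨?_, ?_⟩
    · show n⁻¹ * v * n ∈ Pa hH h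
      rw [Subgroup.mem_normalizer_iff.mp hn1]
      have : n * (n⁻¹ * v * n) * n⁻¹ = v := by group
      rw [this]; exact hv.1
    · exact Subgroup.mul_mem _ (Subgroup.mul_mem _ (Subgroup.inv_mem _ hn2) hv.2) hn2
  have hSH : ∀ g ∈ Ht φ, ∀ v ∈ S, g * v * g⁻¹ ∈ S := by
    intro g hg v hv
    have hn2 : g ∈ Subgroup.normalizer (Qa hH h : Set G) :=
      Subgroup.mem_normalizer_fintype fun x hx => Pa_conj_Ht hH.flip (Ra.flip hH h)
        (by rwa [Ht_fl]) hx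
    exact ⟨Pa_conj_Ht hH h hg hv.1,
      Subgroup.mul_mem _ (Subgroup.mul_mem _ hn2 hv.2) (Subgroup.inv_mem _ hn2)⟩
  have hodd : Odd (Nat.card S) := odd_card_of_forall fun g hg =>
    Odd.of_dvd_nat (odd_p (p := p) hH) (orderOf_dvd_of_pow_eq_one (Pa_pow hH h hg.1))
  have hle : S ≤ ⊥ := by
    refine le_of_D hH hodd (fun b hb v hv => hSH b (Dv_le_Ht hb) v hv) ?_ ?_ ?_
    · intro v hv hc
      rw [Subgroup.mem_bot]; exact hmem v hv hc
    · intro v hv hc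
      rw [Subgroup.mem_bot]
      have h1 := hmem _ (hSn v hv) (by
        have h2 : n⁻¹ * v * n * tt φ = n⁻¹ * (v * (n * tt φ * n⁻¹)) * n := by group
        rw [h2, hc]; group)
      have h3 : v = n * (n⁻¹ * v * n) * n⁻¹ := by group
      rw [h3, h1]; group
    · intro v hv hc
      rw [Subgroup.mem_bot]
      have h1 := hmem _ (hSn _ (hSn v hv)) (by
        have h2 : n⁻¹ * (n⁻¹ * v * n) * n * tt φ =
          n⁻¹ * n⁻¹ * (v * (n * (n * tt φ * n⁻¹) * n⁻¹)) * (n * n) := by group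
        rw [h2, hH.n_t1, hc, ← hH.n_t1]; group)
      have h3 : v = n * (n * (n⁻¹ * (n⁻¹ * v * n) * n) * n⁻¹) * n⁻¹ := by group
      rw [h3, h1]; group
  exact Subgroup.mem_bot.mp (hle ⟨hu, hun⟩)

/-- the element `n` or `1`. -/
def ne (n : G) (b : Bool) : G := if b then n else 1

/-- the counting injection. -/
theorem count_inj [Finite G] [Finite F] (p : ℕ) [Fact p.Prime] [CharP F p] :
    Function.Injective (fun z : Pa hH h × Qa hH h × Ht φ × Bool =>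
      (z.1 : G) * ((z.2.1 : G) * z.2.2.1 * ne n z.2.2.2)) := by
  have hnQ : ∀ (x : Qa hH h) (g : Ht φ) (b : Bool), (x : G) * g * ne n b ∈
      Subgroup.normalizer (Qa hH h : Set G) := by
    intro x g b
    refine Subgroup.mul_mem _ (Subgroup.mul_mem _ ?_ ?_) ?_
    · exact Subgroup.mem_normalizer_fintype fun y hy =>
        (Qa hH h).mul_mem ((Qa hH h).mul_mem x.2 hy) ((Qa hH h).inv_mem x.2)
    · exact Subgroup.mem_normalizer_fintype fun y hy => Pa_conj_Ht hH.flip (Ra.flip hH h)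
        (by rw [Ht_fl]; exact g.2) hy
    · cases b
      · exact Subgroup.one_mem _
      · exact Subgroup.mem_normalizer_fintype fun x hx => Pa_conj_n hH.flip (Ra.flip hH h) hx
  rintro ⟨u, x, g, b⟩ ⟨u', x', g', b'⟩ e
  simp only at e
  have e1 : (u' : G)⁻¹ * u = (x' : G) * g' * ne n b' * ((x : G) * g * ne n b)⁻¹ := by
    rw [inv_mul_eq_iff_eq_mul, ← mul_assoc, eq_mul_inv_iff_mul_eq]; exact e
  have e2 : (u' : G)⁻¹ * u = 1 := by
    refine norm_trivial (p := p) hH h ((Pa hH h).mul_mem ((Pa hH h).inv_mem u'.2) u.2) ?_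
    rw [e1]
    exact Subgroup.mul_mem _ (hnQ _ _ _) (Subgroup.inv_mem _ (hnQ _ _ _))
  have e3 : u = u' := Subtype.ext (inv_mul_eq_one.mp e2).symm
  rw [e2] at e1
  have e4 : (x : G) * g * ne n b = (x' : G) * g' * ne n b' := (mul_inv_eq_one.mp e1.symm).symm
  have hgm : ∀ g : Ht φ, (g : G) ∈ Ht (fl φ) := fun g => by rw [Ht_fl]; exact g.2
  have e5 : b = b' := by
    cases b <;> cases b'
    · rfl
    · exfalso
      simp only [ne, Bool.false_eq_true, if_false, if_true, mul_one] at e4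
      exact n_inj_aux (p := p) hH.flip (Ra.flip hH h) x.2 x'.2 (hgm g) (hgm g') e4
    · exfalso
      simp only [ne, Bool.false_eq_true, if_false, if_true, mul_one] at e4
      exact n_inj_aux (p := p) hH.flip (Ra.flip hH h) x'.2 x.2 (hgm g') (hgm g) e4.symm
    · rfl
  subst e5
  have e6 := mul_right_cancel e4
  have e7 : (x' : G)⁻¹ * x = g' * (g : G)⁻¹ := by
    rw [inv_mul_eq_iff_eq_mul, ← mul_assoc, eq_mul_inv_iff_mul_eq]; exact e6
  have e8 : (x' : G)⁻¹ * x = 1 := by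
    refine Pa_inf_Ht (p := p) hH.flip (Ra.flip hH h)
      ((Qa hH h).mul_mem ((Qa hH h).inv_mem x'.2) x.2) ?_
    rw [e7, Ht_fl]
    exact (Ht φ).mul_mem g'.2 ((Ht φ).inv_mem g.2)
  have e9 : x = x' := Subtype.ext (inv_mul_eq_one.mp e8).symm
  rw [e8] at e7
  have e10 : g = g' := Subtype.ext (mul_inv_eq_one.mp e7.symm).symm
  rw [e3, e9, e10]

end count

theorem three_le_card [Finite F] (hH : Hyp φ n) : 3 ≤ Nat.card F := by
  by_contra hlt
  have h1 : 1 < Nat.card F := Finite.one_lt_card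
  have h2 : Nat.card F = 2 := by omega
  have h3 : (2 : F) = 0 := by
    have := Fintype.ofFinite F
    have h4 := FiniteField.cast_card_eq_zero F
    rw [← Nat.card_eq_fintype_card, h2] at h4
    exact_mod_cast h4
  exact hH.two h3

/-- `Ra` is impossible for groups of the right order. -/
theorem not_Ra [Finite G] [Finite F] (hH : Hyp φ n)
    (hcard : Nat.card G = Nat.card (Ht φ) * Nat.card F ^ 3 *
      ((Nat.card F + 1) * (Nat.card F ^ 2 + Nat.card F + 1))) : ¬ Ra φ n := by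
  intro h
  obtain ⟨p, hp⟩ := CharP.exists F
  have hpp : Fact p.Prime := ⟨(CharP.char_is_prime_or_zero F p).resolve_right (CharP.char_ne_zero_of_finite F p)⟩
  have h1 := Nat.card_le_card_of_injective _ (count_inj hH h p)
  rw [Nat.card_prod, Nat.card_prod, Nat.card_prod, Qa, card_Pa, card_Pa, hcard] at h1
  have h2 : Nat.card Bool = 2 := by simp
  rw [h2] at h1
  have h3 := three_le_card hH
  have h4 : 0 < Nat.card (Ht φ) := Nat.card_pos
  set q := Nat.card F with hq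
  set m := Nat.card (Ht φ) with hm
  have h5 : (m * q ^ 3) * (2 * q ^ 3) ≤ (m * q ^ 3) * ((q + 1) * (q ^ 2 + q + 1)) := by
    calc (m * q ^ 3) * (2 * q ^ 3) = q * q * q * (q * q * q * (m * 2)) := by ring
      _ ≤ _ := h1
  have h6 := Nat.le_of_mul_le_mul_left h5 (Nat.mul_pos h4 (pow_pos (by omega) 3))
  nlinarith [h6, h3, mul_le_mul h3 h3 (by norm_num) (by omega)]

end Cfsg.Agent.Classification.IdL3.LocalThree
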