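import Cfsg.Agent.Classification.IdL3.Local

/-!
Local analysis, second part: the normalizer of `A φ`, exclusion of the relation `Ra`.
-/

set_option autoImplicit false
set_option linter.unusedSimpArgs false

namespace Cfsg.Agent.Classification.IdL3.LocalTwo

open Matrix
open scoped MatrixGroups
open Cfsg.Agent.Classification.IdL3.Mat
open Cfsg.Agent.Classification.IdL3.MatTwo
open Cfsg.Agent.Classification.IdL3.MatThree
open Cfsg.Agent.Classification.IdL3.Setup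
open Cfsg.Agent.Classification.IdL3.SetupTwo
open Cfsg.Agent.Classification.IdL3.Core
open Cfsg.Agent.Classification.IdL3.Local

/-- In a `p`-group a proper subgroup is properly contained in its normalizer. -/
theorem exists_mem_normalizer {G : Type*} [Group G] [Finite G] {p : ℕ} [Fact p.Prime]
    {P A : Subgroup G} (hP : IsPGroup p P) (hAP : A ≤ P) (hne : A ≠ P) :
    ∃ g ∈ P, g ∉ A ∧ ∀ x, x ∈ A ↔ g * x * g⁻¹ ∈ A := by
  have hnil : Group.IsNilpotent P := hP.isNilpotent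
  have h1 := Group.normalizerCondition_of_isNilpotent (A.subgroupOf P) (by
    refine lt_top_iff_ne_top.mpr ?_
    intro h
    rw [Subgroup.subgroupOf_eq_top] at h
    exact hne (le_antisymm hAP h))
  obtain ⟨⟨g, hg⟩, hg1, hg2⟩ := SetLike.exists_of_lt h1
  refine ⟨g, hg, fun h => hg2 h, fun x => ?_⟩
  constructor
  · intro hx
    exact (Subgroup.mem_normalizer_iff.mp hg1 ⟨x, hAP hx⟩).mp hx
  · intro hx
    have h2 : g⁻¹ * (g * x * g⁻¹) * g = x := by group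
    have hxP : x ∈ P := by
      rw [← h2]
      exact P.mul_mem (P.mul_mem (P.inv_mem hg) (hAP hx)) hg
    exact (Subgroup.mem_normalizer_iff.mp hg1 ⟨x, hxP⟩).mpr hx

variable {F : Type*} [Field F] {G : Type*} [Group G] {φ : GL (Fin 2) F →* G} {n : G}

theorem dvd_card_F [Finite F] (p : ℕ) [hp : Fact p.Prime] [CharP F p] : p ∣ Nat.card F := by
  have : Fintype F := Fintype.ofFinite F
  obtain ⟨m, _, hm⟩ := FiniteField.card F p
  rw [Nat.card_eq_fintype_card, hm]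
  exact dvd_pow_self p m.ne_zero

theorem coprime_pk [Finite F] (p : ℕ) [hp : Fact p.Prime] [CharP F p] (k : ℕ) :
    Nat.Coprime (p ^ k) (Nat.card F - 1) := by
  have hpos : 0 < Nat.card F := Nat.card_pos
  apply Nat.Coprime.pow_left
  rw [Nat.Prime.coprime_iff_not_dvd hp.out]
  intro h2
  have h3 := Nat.dvd_sub (dvd_card_F (F := F) p) h2
  have h4 : Nat.card F - (Nat.card F - 1) = 1 := by omega
  rw [h4] at h3
  exact hp.out.one_lt.ne' (Nat.dvd_one.mp h3)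

theorem Ht_mem_of_pow [Finite F] {p : ℕ} [Fact p.Prime] [CharP F p] {h : G} (hh : h ∈ Ht φ)
    {K : Subgroup G} {k : ℕ} (hk : h ^ p ^ k ∈ K) : h ∈ K := by
  have h1 : Nat.Coprime (p ^ k) (orderOf h) :=
    Nat.Coprime.coprime_dvd_right (orderOf_dvd_of_pow_eq_one (Ht_pow hh)) (coprime_pk p k)
  obtain ⟨m, hm⟩ := exists_pow_eq_self_of_coprime h1
  rw [← hm]
  exact K.pow_mem hk m

theorem L_not_comm {d : F} (hd : d ≠ 0) (h : L d * U 1 = U 1 * L d) : False := by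
  have h1 := congrArg (fun k : GL (Fin 2) F => k.1 0 0) h
  simp only [mul_val, L_00, L_01, U_00, U_01, U_10, L_10] at h1
  apply hd
  linear_combination -h1

/-- elements of `C(t)` normalising `A φ` are upper triangular. -/
theorem mem_borel_of_norm (hH : Hyp φ n) {g : G} (h0 : g * tt φ = tt φ * g)
    (hg : ∀ x ∈ A φ, g * x * g⁻¹ ∈ A φ) : ∃ y ∈ A φ, ∃ h ∈ Ht φ, g = y * h := by
  obtain ⟨x, rfl⟩ := hH.cent g h0
  by_cases h10 : x.1 1 0 = 0
  · obtain ⟨c, a, b, rfl⟩ := eq_UT x h10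
    exact ⟨_, mem_A.mpr ⟨c, rfl⟩, _, mem_Ht.mpr ⟨a, b, rfl⟩, map_mul _ _ _⟩
  · exfalso
    obtain ⟨c, d, a, b, rfl⟩ := eq_UTWU x h10
    have h1 := hg (φ (U 1)) (mem_A.mpr ⟨1, rfl⟩)
    rw [← map_inv, ← map_mul, ← map_mul] at h1
    have h2 : U c * T a b * W * U d * U 1 * (U c * T a b * W * U d)⁻¹ =
        U c * (T a b * (W * (U d * U 1 * (U d)⁻¹) * W⁻¹) * (T a b)⁻¹) * (U c)⁻¹ := by group
    have h3 : U d * U 1 * (U d)⁻¹ = (U 1 : GL (Fin 2) F) := by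
      rw [U_inv, U_mul, U_mul]; congr 1; ring
    rw [h2, h3, W_U, T_L] at h1
    have hne : (b : F) * 1 * ((a⁻¹ : Fˣ) : F) ≠ 0 :=
      mul_ne_zero (mul_ne_zero b.ne_zero one_ne_zero) (a⁻¹).ne_zero
    set e := (b : F) * 1 * ((a⁻¹ : Fˣ) : F) with he
    have h4 : φ (L e) ∈ A φ := by
      have h5 : φ (L e) = φ (U c)⁻¹ * φ (U c * L e * (U c)⁻¹) * φ (U c) := by
        rw [← map_mul, ← map_mul]; congr 1; group
      rw [h5]
      exact (A φ).mul_mem ((A φ).mul_mem (by rw [U_inv]; exact mem_A.mpr ⟨_, rfl⟩) h1)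
        (mem_A.mpr ⟨_, rfl⟩)
    exact L_not_comm hne (hH.comm_lift (A_comm h4 (mem_A.mpr ⟨1, rfl⟩)))

variable {K : Subgroup G}

/-- the normalizer of `A φ` is `K * Ht`. -/
theorem normA_dec (hH : Hyp φ n)
    (hK : Core φ (Subgroup.centralizer (A φ : Set G)) K) {g : G}
    (hg : ∀ x, x ∈ A φ ↔ g * x * g⁻¹ ∈ A φ) : ∃ k ∈ K, ∃ h ∈ Ht φ, g = k * h := by
  have hg' : ∀ x ∈ A φ, g⁻¹ * x * g ∈ A φ := by
    intro x hx
    rw [hg]
    have : g * (g⁻¹ * x * g) * g⁻¹ = x := by group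
    rwa [this]
  have hu : g * tt φ * g⁻¹ ∈ Subgroup.centralizer (A φ : Set G) := by
    rw [Subgroup.mem_centralizer_iff]
    intro x hx
    have h1 := tt_comm_A (hg' x hx)
    have h2 : x * (g * tt φ * g⁻¹) = g * (g⁻¹ * x * g * tt φ) * g⁻¹ := by group
    rw [h2, h1]; group
  obtain ⟨c, hc, hcu⟩ := hK.inv _ hu (by
    have : g * tt φ * g⁻¹ * (g * tt φ * g⁻¹) = g * (tt φ * tt φ) * g⁻¹ := by group
    rw [this, tt_sq]; group) (by
    intro h
    apply hH.tt_ne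
    have : tt φ = g⁻¹ * (g * tt φ * g⁻¹) * g := by group
    rw [this, h]; group)
  have h3 : (c * g) * tt φ = tt φ * (c * g) := by
    rw [← mul_inv_eq_iff_eq_mul]
    refine Eq.trans ?_ hcu
    group
  obtain ⟨y, hy, h, hh, e⟩ := mem_borel_of_norm hH h3 (by
    intro x hx
    have h4 := (hg x).mp hx
    have h5 := Subgroup.mem_centralizer_iff.mp hc _ h4
    have h6 : c * g * x * (c * g)⁻¹ = (c * (g * x * g⁻¹)) * c⁻¹ := by group
    rw [h6, ← h5, mul_assoc, mul_inv_cancel, mul_one]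
    exact h4)
  have hyC : y ∈ Subgroup.centralizer (A φ : Set G) :=
    Subgroup.mem_centralizer_iff.mpr fun x hx => A_comm hx hy
  obtain ⟨k, hk, z, hz, e2⟩ := hK.dec (c⁻¹ * y) (Subgroup.mul_mem _ (Subgroup.inv_mem _ hc) hyC)
  refine ⟨k, hk, z * h, (Ht φ).mul_mem (Zc_le_Ht hz) hh, ?_⟩
  rw [← mul_assoc, ← e2, mul_assoc, ← e]; group

theorem mul_pow_mem' (hKH : ∀ h ∈ Ht φ, ∀ k ∈ K, h * k * h⁻¹ ∈ K) {y h : G} (hy : y ∈ K)
    (hh : h ∈ Ht φ) (m : ℕ) : ∃ y' ∈ K, (y * h) ^ m = y' * h ^ m := by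
  induction m with
  | zero => exact ⟨1, K.one_mem, by simp⟩
  | succ m ih =>
    obtain ⟨y', hy', e⟩ := ih
    refine ⟨y' * (h ^ m * y * (h ^ m)⁻¹), K.mul_mem hy' (hKH _ ((Ht φ).pow_mem hh m) _ hy), ?_⟩
    rw [pow_succ, e, pow_succ]; group

/-- `p`-elements normalising `A φ` lie in `K`. -/
theorem norm_pelt [Finite F] {p : ℕ} [Fact p.Prime] [CharP F p] (hH : Hyp φ n)
    (hK : Core φ (Subgroup.centralizer (A φ : Set G)) K) {g : G}
    (hg : ∀ x, x ∈ A φ ↔ g * x * g⁻¹ ∈ A φ) {k : ℕ} (hk : g ^ p ^ k = 1) : g ∈ K := by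
  obtain ⟨y, hy, h, hh, rfl⟩ := normA_dec hH hK hg
  obtain ⟨y', hy', e⟩ := mul_pow_mem' (fun h hh k hk => hK.conj
    (fun c hc => Ht_conj_C hh hc) hk) hy hh (p ^ k)
  rw [hk] at e
  have h1 : h ^ p ^ k = y'⁻¹ := by rw [eq_comm, inv_eq_iff_mul_eq_one]; exact e.symm
  refine K.mul_mem hy (Ht_mem_of_pow hh (p := p) (k := k) ?_)
  rw [h1]; exact K.inv_mem hy'

/-- One of the three relations holds. -/
theorem exists_rel [Finite G] [Finite F] {p : ℕ} [Fact p.Prime] [CharP F p] (hH : Hyp φ n)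
    {P : Subgroup G} (hP : IsPGroup p P) (hAP : A φ ≤ P) (hne : A φ ≠ P) :
    Ra φ n ∨ Rb φ n ∨ Rb φ n⁻¹ := by
  obtain ⟨x, hx, hx1⟩ := exists_A_ne hH
  obtain ⟨K, hK⟩ := exists_core (p := p) hH (Y := (A φ : Set G)) subset_rfl hx hx1
  obtain ⟨g, hg, hgA, hgn⟩ := exists_mem_normalizer hP hAP hne
  obtain ⟨k, hk⟩ := hP ⟨g, hg⟩
  have hk' : g ^ p ^ k = 1 := congrArg Subtype.val hk
  exact step_one hH hK (norm_pelt (p := p) hH hK hgn hk') hgA hk'

end Cfsg.Agent.Classification.IdL3.LocalTwo
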