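import Mathlib

/-!
Elementary facts on `GL (Fin 2) F`: root elements, diagonal matrices, Bruhat decomposition,
subgroups normalised by the diagonal torus.
-/

set_option autoImplicit false

namespace Cfsg.Agent.Classification.IdL3.Mat

open Matrix
open scoped MatrixGroups

variable {F : Type*} [Field F]

/-- Upper unipotent element. -/
def U (c : F) : GL (Fin 2) F :=
  ⟨!![1, c; 0, 1], !![1, -c; 0, 1], by
    rw [Matrix.mul_fin_two, Matrix.one_fin_two]; simp, by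
    rw [Matrix.mul_fin_two, Matrix.one_fin_two]; simp⟩

/-- Lower unipotent element. -/
def L (c : F) : GL (Fin 2) F :=
  ⟨!![1, 0; c, 1], !![1, 0; -c, 1], by
    rw [Matrix.mul_fin_two, Matrix.one_fin_two]; simp, by
    rw [Matrix.mul_fin_two, Matrix.one_fin_two]; simp⟩

/-- Diagonal element. -/
def T (a b : Fˣ) : GL (Fin 2) F :=
  ⟨!![(a : F), 0; 0, (b : F)], !![((a⁻¹ : Fˣ) : F), 0; 0, ((b⁻¹ : Fˣ) : F)], by
    rw [Matrix.mul_fin_two, Matrix.one_fin_two]; simp, by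
    rw [Matrix.mul_fin_two, Matrix.one_fin_two]; simp⟩

/-- The reflection matrix. -/
def W : GL (Fin 2) F :=
  ⟨!![0, 1; 1, 0], !![0, 1; 1, 0], by
    rw [Matrix.mul_fin_two, Matrix.one_fin_two]; simp, by
    rw [Matrix.mul_fin_two, Matrix.one_fin_two]; simp⟩

theorem ext4 {g h : GL (Fin 2) F} (h00 : g.1 0 0 = h.1 0 0) (h01 : g.1 0 1 = h.1 0 1)
    (h10 : g.1 1 0 = h.1 1 0) (h11 : g.1 1 1 = h.1 1 1) : g = h := by
  apply Units.ext
  ext i j
  fin_cases i <;> fin_cases j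
  · exact h00
  · exact h01
  · exact h10
  · exact h11

theorem mul_val (g h : GL (Fin 2) F) (i j : Fin 2) :
    (g * h).1 i j = g.1 i 0 * h.1 0 j + g.1 i 1 * h.1 1 j := by
  rw [Units.val_mul, Matrix.mul_apply, Fin.sum_univ_two]

@[simp] theorem one_00 : (1 : GL (Fin 2) F).1 0 0 = 1 := by simp
@[simp] theorem one_01 : (1 : GL (Fin 2) F).1 0 1 = 0 := by simp
@[simp] theorem one_10 : (1 : GL (Fin 2) F).1 1 0 = 0 := by simp
@[simp] theorem one_11 : (1 : GL (Fin 2) F).1 1 1 = 1 := by simp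

@[simp] theorem U_00 (c : F) : (U c).1 0 0 = 1 := rfl
@[simp] theorem U_01 (c : F) : (U c).1 0 1 = c := rfl
@[simp] theorem U_10 (c : F) : (U c).1 1 0 = 0 := rfl
@[simp] theorem U_11 (c : F) : (U c).1 1 1 = 1 := rfl
@[simp] theorem L_00 (c : F) : (L c).1 0 0 = 1 := rfl
@[simp] theorem L_01 (c : F) : (L c).1 0 1 = 0 := rfl
@[simp] theorem L_10 (c : F) : (L c).1 1 0 = c := rfl
@[simp] theorem L_11 (c : F) : (L c).1 1 1 = 1 := rfl
@[simp] theorem T_00 (a b : Fˣ) : (T a b).1 0 0 = a := rfl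
@[simp] theorem T_01 (a b : Fˣ) : (T a b).1 0 1 = 0 := rfl
@[simp] theorem T_10 (a b : Fˣ) : (T a b).1 1 0 = 0 := rfl
@[simp] theorem T_11 (a b : Fˣ) : (T a b).1 1 1 = b := rfl
@[simp] theorem W_00 : (W : GL (Fin 2) F).1 0 0 = 0 := rfl
@[simp] theorem W_01 : (W : GL (Fin 2) F).1 0 1 = 1 := rfl
@[simp] theorem W_10 : (W : GL (Fin 2) F).1 1 0 = 1 := rfl
@[simp] theorem W_11 : (W : GL (Fin 2) F).1 1 1 = 0 := rfl

theorem U_mul (a b : F) : U a * U b = U (a + b) := by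
  apply ext4 <;> simp only [mul_val, U_00, U_01, U_10, U_11] <;> ring

theorem L_mul (a b : F) : L a * L b = L (a + b) := by
  apply ext4 <;> simp only [mul_val, L_00, L_01, L_10, L_11] <;> ring

theorem U_zero : U (0 : F) = 1 := by
  apply ext4 <;> simp

theorem L_zero : L (0 : F) = 1 := by
  apply ext4 <;> simp

theorem U_inv (a : F) : (U a)⁻¹ = U (-a) := by
  rw [inv_eq_iff_mul_eq_one, U_mul, add_neg_cancel, U_zero]

theorem L_inv (a : F) : (L a)⁻¹ = L (-a) := by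
  rw [inv_eq_iff_mul_eq_one, L_mul, add_neg_cancel, L_zero]

theorem U_injective : Function.Injective (U : F → GL (Fin 2) F) := fun a b h => by
  have := congrArg (fun g : GL (Fin 2) F => g.1 0 1) h
  simpa using this

theorem L_injective : Function.Injective (L : F → GL (Fin 2) F) := fun a b h => by
  have := congrArg (fun g : GL (Fin 2) F => g.1 1 0) h
  simpa using this

theorem T_mul (a b a' b' : Fˣ) : T a b * T a' b' = T (a * a') (b * b') := by
  apply ext4 <;> simp [mul_val]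

theorem T_one : T (1 : Fˣ) 1 = 1 := by
  apply ext4 <;> simp

theorem T_inv (a b : Fˣ) : (T a b)⁻¹ = T a⁻¹ b⁻¹ := by
  rw [inv_eq_iff_mul_eq_one, T_mul]; simp [T_one]

theorem T_U (a b : Fˣ) (c : F) : T a b * U c * (T a b)⁻¹ = U (a * c * ((b⁻¹ : Fˣ) : F)) := by
  rw [mul_inv_eq_iff_eq_mul]
  apply ext4 <;> simp [mul_val, mul_assoc]

theorem T_L (a b : Fˣ) (c : F) : T a b * L c * (T a b)⁻¹ = L (b * c * ((a⁻¹ : Fˣ) : F)) := by
  rw [mul_inv_eq_iff_eq_mul]
  apply ext4 <;> simp [mul_val, mul_assoc]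

theorem W_mul_W : (W : GL (Fin 2) F) * W = 1 := by
  apply ext4 <;> simp [mul_val]

theorem W_inv : (W : GL (Fin 2) F)⁻¹ = W := by
  rw [inv_eq_iff_mul_eq_one, W_mul_W]

theorem W_U (c : F) : W * U c * W⁻¹ = L c := by
  rw [mul_inv_eq_iff_eq_mul]
  apply ext4 <;> simp [mul_val]

theorem W_L (c : F) : W * L c * W⁻¹ = U c := by
  rw [mul_inv_eq_iff_eq_mul]
  apply ext4 <;> simp [mul_val]

theorem W_T (a b : Fˣ) : W * T a b * W⁻¹ = T b a := by
  rw [mul_inv_eq_iff_eq_mul]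
  apply ext4 <;> simp [mul_val]

/-- The Weyl element of `SL2`. -/
theorem ULU (c : Fˣ) : U (c : F) * L (-((c⁻¹ : Fˣ) : F)) * U (c : F) = T c (-c⁻¹) * W := by
  apply ext4 <;> simp [mul_val]

theorem LUL (c : Fˣ) : L (c : F) * U (-((c⁻¹ : Fˣ) : F)) * L (c : F) = T (-c⁻¹) c * W := by
  apply ext4 <;> simp [mul_val]

theorem det_eq (g : GL (Fin 2) F) : g.1.det = g.1 0 0 * g.1 1 1 - g.1 0 1 * g.1 1 0 :=
  Matrix.det_fin_two g.1

theorem det_ne (g : GL (Fin 2) F) : g.1 0 0 * g.1 1 1 - g.1 0 1 * g.1 1 0 ≠ 0 := by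
  rw [← det_eq]
  exact (Matrix.isUnit_iff_isUnit_det _ |>.mp g.isUnit).ne_zero

/-- Bruhat decomposition. -/
theorem eq_UT (g : GL (Fin 2) F) (h : g.1 1 0 = 0) : ∃ (x : F) (a b : Fˣ), g = U x * T a b := by
  have hd := det_ne g
  rw [h, mul_zero, sub_zero] at hd
  have ha := left_ne_zero_of_mul hd
  have hb := right_ne_zero_of_mul hd
  refine ⟨g.1 0 1 / g.1 1 1, Units.mk0 _ ha, Units.mk0 _ hb, ?_⟩
  apply ext4 <;> simp [mul_val, h, hb]

theorem eq_UTWU (g : GL (Fin 2) F) (h : g.1 1 0 ≠ 0) :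
    ∃ (x y : F) (a b : Fˣ), g = U x * T a b * W * U y := by
  have hd := det_ne g
  have ha : g.1 0 1 - g.1 0 0 * g.1 1 1 / g.1 1 0 ≠ 0 := by
    intro h0
    apply hd
    field_simp at h0
    linear_combination -h0
  refine ⟨g.1 0 0 / g.1 1 0, g.1 1 1 / g.1 1 0, Units.mk0 _ ha, Units.mk0 _ h, ?_⟩
  apply ext4
  · simp [mul_val, h]
  · simp [mul_val]
    field_simp
    ring
  · simp [mul_val]
  · simp [mul_val]
    field_simp

end Cfsg.Agent.Classification.IdL3.Mat
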