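import Cfsg.Agent.Classification.IdL3.MatTwo

/-!
Subgroups of `GL (Fin 2) F` normalised by the diagonal torus; subgroups of odd order.
-/

set_option autoImplicit false
set_option linter.unusedSimpArgs false

namespace Cfsg.Agent.Classification.IdL3.MatThree

open Matrix
open scoped MatrixGroups
open Cfsg.Agent.Classification.IdL3.Mat
open Cfsg.Agent.Classification.IdL3.MatTwo

variable {F : Type*} [Field F]

theorem unip_entries {p : ℕ} [Fact p.Prime] [CharP F p] {g : GL (Fin 2) F} {k : ℕ}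
    (hg : g ^ p ^ k = 1) :
    g.1 0 0 + g.1 1 1 = 2 ∧ (g.1 0 0 - 1) * (g.1 1 1 - 1) = g.1 0 1 * g.1 1 0 := by
  have hN : (g.1 - 1) ^ p ^ k = 0 := by
    have hc : Commute g.1 (1 : Matrix (Fin 2) (Fin 2) F) := Commute.one_right _
    rw [sub_pow_char_pow_of_commute _ _ hc, one_pow, ← Units.val_pow_eq_pow_val, hg,
      Units.val_one, sub_self]
  have hnil : IsNilpotent (g.1 - 1) := ⟨_, hN⟩
  have htr := Matrix.isNilpotent_trace_of_isNilpotent hnil
  rw [isNilpotent_iff_eq_zero] at htr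
  have hdet : (g.1 - 1).det = 0 := by
    have : (g.1 - 1).det ^ p ^ k = 0 := by
      rw [← Matrix.det_pow, hN, Matrix.det_zero]
    exact pow_eq_zero_iff (pow_ne_zero _ (Fact.out : p.Prime).ne_zero) |>.mp this
  rw [Matrix.trace_fin_two] at htr
  rw [Matrix.det_fin_two] at hdet
  simp only [Matrix.sub_apply, Matrix.one_apply_eq, Matrix.one_apply_ne, ne_eq, zero_ne_one,
    not_false_eq_true, one_ne_zero, sub_zero] at htr hdet
  constructor
  · linear_combination htr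
  · linear_combination hdet

/-- Torus lemma. -/
theorem torus {p : ℕ} [Fact p.Prime] [CharP F p] (h2 : (2 : F) ≠ 0) (M : Subgroup (GL (Fin 2) F))
    (hT : ∀ (a b : Fˣ), ∀ g ∈ M, T a b * g * (T a b)⁻¹ ∈ M) {g : GL (Fin 2) F} (hgM : g ∈ M)
    (hg1 : g ≠ 1) {k : ℕ} (hg : g ^ p ^ k = 1) : (∀ c, U c ∈ M) ∨ (∀ c, L c ∈ M) := by
  obtain ⟨htr, hdet⟩ := unip_entries hg
  -- a nontrivial `U c` or `L c` is enough
  have hU : ∀ y : F, y ≠ 0 → U y ∈ M → ∀ c, U c ∈ M := by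
    intro y hy hm c
    by_cases hc : c = 0
    · rw [hc, U_zero]; exact M.one_mem
    · have h := hT (Units.mk0 (c / y) (div_ne_zero hc hy)) 1 _ hm
      rw [T_U] at h
      simpa [hy] using h
  have hL : ∀ y : F, y ≠ 0 → L y ∈ M → ∀ c, L c ∈ M := by
    intro y hy hm c
    by_cases hc : c = 0
    · rw [hc, L_zero]; exact M.one_mem
    · have h := hT 1 (Units.mk0 (c / y) (div_ne_zero hc hy)) _ hm
      rw [T_L] at h
      simpa [hy] using h
  -- unipotent elements with a zero off-diagonal entry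
  have hU' : ∀ k : GL (Fin 2) F, k.1 0 0 + k.1 1 1 = 2 →
      (k.1 0 0 - 1) * (k.1 1 1 - 1) = k.1 0 1 * k.1 1 0 → k ≠ 1 → k ∈ M → k.1 1 0 = 0 →
      ∀ c, U c ∈ M := by
    intro k h1 h3 hk1 hkM h10
    have hx : (k.1 0 0 - 1) * (k.1 0 0 - 1) = 0 := by
      rw [h10] at h3
      linear_combination (k.1 0 0 - 1) * h1 - h3
    have h00 : k.1 0 0 = 1 := sub_eq_zero.mp (mul_self_eq_zero.mp hx)
    have h11 : k.1 1 1 = 1 := by linear_combination h1 - h00
    have hk : k = U (k.1 0 1) := by apply ext4 <;> simp [h00, h11, h10]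
    refine hU (k.1 0 1) (fun h0 => hk1 ?_) (hk ▸ hkM)
    rw [hk, h0, U_zero]
  have hL' : ∀ k : GL (Fin 2) F, k.1 0 0 + k.1 1 1 = 2 →
      (k.1 0 0 - 1) * (k.1 1 1 - 1) = k.1 0 1 * k.1 1 0 → k ≠ 1 → k ∈ M → k.1 0 1 = 0 →
      ∀ c, L c ∈ M := by
    intro k h1 h3 hk1 hkM h10
    have hx : (k.1 0 0 - 1) * (k.1 0 0 - 1) = 0 := by
      rw [h10] at h3
      linear_combination (k.1 0 0 - 1) * h1 - h3
    have h00 : k.1 0 0 = 1 := sub_eq_zero.mp (mul_self_eq_zero.mp hx)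
    have h11 : k.1 1 1 = 1 := by linear_combination h1 - h00
    have hk : k = L (k.1 1 0) := by apply ext4 <;> simp [h00, h11, h10]
    refine hL (k.1 1 0) (fun h0 => hk1 ?_) (hk ▸ hkM)
    rw [hk, h0, L_zero]
  by_cases hz : g.1 1 0 = 0
  · exact Or.inl (hU' g htr hdet hg1 hgM hz)
  by_cases hy : g.1 0 1 = 0
  · exact Or.inr (hL' g htr hdet hg1 hgM hy)
  -- general case
  set x := g.1 0 0 - 1 with hx
  set y := g.1 0 1 with hydef
  set z := g.1 1 0 with hzdef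
  have e00 : g.1 0 0 = 1 + x := by rw [hx]; ring
  have e11 : g.1 1 1 = 1 - x := by rw [hx]; linear_combination htr
  have hxyz : x * x = -(y * z) := by
    have : (g.1 0 0 - 1) * (g.1 1 1 - 1) = y * z := hdet
    rw [e00, e11] at this
    linear_combination -this
  have hx0 : x ≠ 0 := by
    intro h0
    rw [h0, mul_zero] at hxyz
    exact mul_ne_zero hy hz (neg_eq_zero.mp hxyz.symm)
  have gi00 : (g⁻¹).1 0 0 = 1 - x := by
    have h1 : (g⁻¹).1 = g.1⁻¹ := Matrix.coe_units_inv g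
    rw [h1, Matrix.inv_def, Matrix.smul_apply, Matrix.adjugate_fin_two]
    have hd : g.1.det = 1 := by
      rw [det_eq, e00, e11]; linear_combination -hxyz
    rw [hd]; simp [e11]
  have gi01 : (g⁻¹).1 0 1 = -y := by
    have h1 : (g⁻¹).1 = g.1⁻¹ := Matrix.coe_units_inv g
    rw [h1, Matrix.inv_def, Matrix.smul_apply, Matrix.adjugate_fin_two]
    have hd : g.1.det = 1 := by
      rw [det_eq, e00, e11]; linear_combination -hxyz
    rw [hd]; simp [hydef]
  have gi10 : (g⁻¹).1 1 0 = -z := by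
    have h1 : (g⁻¹).1 = g.1⁻¹ := Matrix.coe_units_inv g
    rw [h1, Matrix.inv_def, Matrix.smul_apply, Matrix.adjugate_fin_two]
    have hd : g.1.det = 1 := by
      rw [det_eq, e00, e11]; linear_combination -hxyz
    rw [hd]; simp [hzdef]
  have gi11 : (g⁻¹).1 1 1 = 1 + x := by
    have h1 : (g⁻¹).1 = g.1⁻¹ := Matrix.coe_units_inv g
    rw [h1, Matrix.inv_def, Matrix.smul_apply, Matrix.adjugate_fin_two]
    have hd : g.1.det = 1 := by
      rw [det_eq, e00, e11]; linear_combination -hxyz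
    rw [hd]; simp [e00]
  -- the conjugate by `T 1 r`
  have key : ∀ r : Fˣ, ∀ m : GL (Fin 2) F, m = g * (T 1 r * g * (T 1 r)⁻¹) * g⁻¹ →
      m ∈ M ∧ m ≠ 1 ∧ m.1 0 0 + m.1 1 1 = 2 ∧
      (m.1 0 0 - 1) * (m.1 1 1 - 1) = m.1 0 1 * m.1 1 0 ∧
      m.1 1 0 = z * ((r⁻¹ : Fˣ) : F) * ((1 - x) * r + x) ^ 2 ∧
      m.1 0 1 = y * ((r⁻¹ : Fˣ) : F) * (x * r - (1 + x)) ^ 2 := by
    intro r m hm
    have hm1 : m ≠ 1 := by
      intro h1
      rw [h1] at hm
      have : T 1 r * g * (T 1 r)⁻¹ = 1 := by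
        have h3 : g⁻¹ * (g * (T 1 r * g * (T 1 r)⁻¹) * g⁻¹) * g = g⁻¹ * 1 * g := by rw [← hm]
        rw [mul_one, inv_mul_cancel] at h3
        rw [← h3]; group
      rw [mul_inv_eq_one] at this
      exact hg1 (mul_left_cancel (this.trans (mul_one _).symm))
    have hpow : m ^ p ^ k = 1 := by
      rw [hm, conj_pow, conj_pow, hg]; group
    obtain ⟨m1, m2⟩ := unip_entries hpow
    have hr : (r : F) * ((r⁻¹ : Fˣ) : F) = 1 := Units.mul_inv r
    refine ⟨?_, hm1, m1, m2, ?_, ?_⟩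
    · rw [hm]
      exact M.mul_mem (M.mul_mem hgM (hT 1 r g hgM)) (M.inv_mem hgM)
    · rw [hm]
      simp only [mul_val, T_inv, T_00, T_01, T_10, T_11, inv_one, Units.val_one, e00, e11,
        ← hydef, ← hzdef, gi00, gi01, gi10, gi11]
      linear_combination (-(z * ((r⁻¹ : Fˣ) : F))) * hxyz +
        (-(z * (2 * x * (1 - x) + (1 - x) ^ 2 * r)) - z * (1 - x) ^ 2) * hr
    · rw [hm]
      simp only [mul_val, T_inv, T_00, T_01, T_10, T_11, inv_one, Units.val_one, e00, e11,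
        ← hydef, ← hzdef, gi00, gi01, gi10, gi11]
      linear_combination (-(y * r)) * hxyz +
        (y * (2 * x * (1 + x) - x ^ 2 * r) - y * (x ^ 2 - 1)) * hr
  by_cases hx1 : x = 1
  · -- use `r = 2`
    obtain ⟨m1, m2, m3, m4, _, m6⟩ := key (Units.mk0 2 h2) _ rfl
    refine Or.inr (hL' _ m3 m4 m2 m1 ?_)
    rw [m6, hx1]
    simp
    right
    norm_num
  · have hr : x / (x - 1) ≠ 0 := div_ne_zero hx0 (sub_ne_zero.mpr hx1)
    obtain ⟨m1, m2, m3, m4, m5, _⟩ := key (Units.mk0 _ hr) _ rfl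
    refine Or.inl (hU' _ m3 m4 m2 m1 ?_)
    rw [m5, Units.val_mk0]
    have hx1' := sub_ne_zero.mpr hx1
    have : (1 - x) * (x / (x - 1)) + x = 0 := by field_simp; ring
    rw [this]; simp

/-- A subgroup containing all `U c` but not `-1` is upper triangular. -/
theorem upper_of_not_mem (M : Subgroup (GL (Fin 2) F))
    (hM : T (-1) (-1) ∉ M) (hU : ∀ c, U c ∈ M) {g : GL (Fin 2) F} (hg : g ∈ M) :
    g.1 1 0 = 0 := by
  by_contra h0
  obtain ⟨x, y, a, b, rfl⟩ := eq_UTWU g h0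
  have hm : T a b * W ∈ M := by
    have h1 := M.mul_mem (M.mul_mem (M.inv_mem (hU x)) hg) (M.inv_mem (hU y))
    have h3 : (U x)⁻¹ * (U x * T a b * W * U y) * (U y)⁻¹ = T a b * W := by group
    rwa [h3] at h1
  have hL : ∀ c, L (b * c * ((a⁻¹ : Fˣ) : F)) ∈ M := by
    intro c
    have h1 := M.mul_mem (M.mul_mem hm (hU c)) (M.inv_mem hm)
    have h3 : T a b * W * U c * (T a b * W)⁻¹ = T a b * (W * U c * W⁻¹) * (T a b)⁻¹ := by group
    rwa [h3, W_U, T_L] at h1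
  have hL1 : L (-1) ∈ M := by
    have := hL (-(a * ((b⁻¹ : Fˣ) : F)))
    have e : (b : F) * (-(a * ((b⁻¹ : Fˣ) : F))) * ((a⁻¹ : Fˣ) : F) = -1 := by
      have h1 : (b : F) * ((b⁻¹ : Fˣ) : F) = 1 := Units.mul_inv b
      have h3 : (a : F) * ((a⁻¹ : Fˣ) : F) = 1 := Units.mul_inv a
      linear_combination (-((a : F) * ((a⁻¹ : Fˣ) : F))) * h1 - h3
    rwa [e] at this
  have hw : T 1 (-1) * W ∈ M := by
    have := ULU (1 : Fˣ)
    rw [inv_one, Units.val_one] at this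
    rw [← this]
    exact M.mul_mem (M.mul_mem (hU 1) hL1) (hU 1)
  have ht : T (-1) (-1) ∈ M := by
    have h1 := M.mul_mem hw hw
    have h3 : T (1 : Fˣ) (-1) * W * (T 1 (-1) * W) = T (1 : Fˣ) (-1) * (W * T 1 (-1) * W⁻¹) * (W * W) := by
      group
    rw [h3, W_T, W_mul_W, mul_one, T_mul] at h1
    simpa using h1
  exact hM ht

/-- `p`-elements among upper triangular matrices. -/
theorem U_of_pow {p : ℕ} [Fact p.Prime] [CharP F p] {g : GL (Fin 2) F} {k : ℕ}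
    (hg : g ^ p ^ k = 1) (h10 : g.1 1 0 = 0) : ∃ c, g = U c := by
  obtain ⟨h1, h3⟩ := unip_entries hg
  have hx : (g.1 0 0 - 1) * (g.1 0 0 - 1) = 0 := by
    rw [h10] at h3
    linear_combination (g.1 0 0 - 1) * h1 - h3
  have h00 : g.1 0 0 = 1 := sub_eq_zero.mp (mul_self_eq_zero.mp hx)
  have h11 : g.1 1 1 = 1 := by linear_combination h1 - h00
  exact ⟨g.1 0 1, by apply ext4 <;> simp [h00, h11, h10]⟩

end Cfsg.Agent.Classification.IdL3.MatThree
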