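import Cfsg.Agent.Classification.IdL3.Mat

/-!
Centralizers, subgroups normalised by the diagonal torus, subgroups of odd order of `GL (Fin 2) F`.
-/

set_option autoImplicit false
set_option linter.unusedSimpArgs false

namespace Cfsg.Agent.Classification.IdL3.MatTwo

open Matrix
open scoped MatrixGroups
open Cfsg.Agent.Classification.IdL3.Mat

variable {F : Type*} [Field F]

/-- a matrix commuting with `U 1` and `L 1` is scalar. -/
theorem scalar_of_comm {g : GL (Fin 2) F} (hU : g * U 1 = U 1 * g) (hL : g * L 1 = L 1 * g) :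
    ∃ a : Fˣ, g = T a a := by
  have h1 := congrArg (fun k : GL (Fin 2) F => k.1 0 0) hU
  have h2 := congrArg (fun k : GL (Fin 2) F => k.1 0 1) hU
  have h3 := congrArg (fun k : GL (Fin 2) F => k.1 0 0) hL
  simp only [mul_val, U_00, U_01, U_10, U_11, L_00, L_01, L_10, L_11, mul_one, mul_zero, one_mul,
    add_zero, zero_mul, zero_add] at h1 h2 h3
  have hc : g.1 1 0 = 0 := by linear_combination -h1
  have hb : g.1 0 1 = 0 := by linear_combination h3
  have had : g.1 0 0 = g.1 1 1 := by linear_combination h2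
  have hd := det_ne g
  rw [hc, mul_zero, sub_zero] at hd
  refine ⟨Units.mk0 _ (left_ne_zero_of_mul hd), ?_⟩
  apply ext4 <;> simp [hc, hb, had]

theorem scalar_of_center {g : GL (Fin 2) F} (hg : g ∈ Subgroup.center (GL (Fin 2) F)) :
    ∃ a : Fˣ, g = T a a := by
  rw [Subgroup.mem_center_iff] at hg
  exact scalar_of_comm (hg (U 1)).symm (hg (L 1)).symm

theorem T_self_comm (a : Fˣ) (g : GL (Fin 2) F) : T a a * g = g * T a a := by
  apply ext4 <;> simp [mul_val, mul_comm]

/-- a matrix commuting with `T 1 (-1)` is diagonal. -/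
theorem diag_of_comm (h2 : (2 : F) ≠ 0) {g : GL (Fin 2) F} (h : g * T 1 (-1) = T 1 (-1) * g) :
    ∃ a b : Fˣ, g = T a b := by
  have h1 := congrArg (fun k : GL (Fin 2) F => k.1 0 1) h
  have h3 := congrArg (fun k : GL (Fin 2) F => k.1 1 0) h
  simp only [mul_val, T_00, T_01, T_10, T_11, Units.val_neg, Units.val_one, mul_one, mul_zero,
    one_mul, add_zero, zero_mul, zero_add] at h1 h3
  have hb : g.1 0 1 = 0 := by
    have : (2 : F) * g.1 0 1 = 0 := by linear_combination -h1
    exact (mul_eq_zero.mp this).resolve_left h2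
  have hc : g.1 1 0 = 0 := by
    have : (2 : F) * g.1 1 0 = 0 := by linear_combination h3
    exact (mul_eq_zero.mp this).resolve_left h2
  have hd := det_ne g
  rw [hc, mul_zero, sub_zero] at hd
  refine ⟨Units.mk0 _ (left_ne_zero_of_mul hd), Units.mk0 _ (right_ne_zero_of_mul hd), ?_⟩
  apply ext4 <;> simp [hc, hb]

/-- a matrix commuting with `U c`, `c ≠ 0`. -/
theorem of_comm_U {c : F} (hc : c ≠ 0) {g : GL (Fin 2) F} (h : g * U c = U c * g) :
    ∃ (x : F) (a : Fˣ), g = U x * T a a := by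
  have h1 := congrArg (fun k : GL (Fin 2) F => k.1 0 0) h
  have h2 := congrArg (fun k : GL (Fin 2) F => k.1 0 1) h
  simp only [mul_val, U_00, U_01, U_10, U_11, mul_one, mul_zero, one_mul,
    add_zero, zero_mul, zero_add] at h1 h2
  have h10 : g.1 1 0 = 0 := by
    have : c * g.1 1 0 = 0 := by linear_combination -h1
    exact (mul_eq_zero.mp this).resolve_left hc
  have had : g.1 0 0 = g.1 1 1 := by
    have : c * (g.1 0 0 - g.1 1 1) = 0 := by linear_combination h2
    exact sub_eq_zero.mp ((mul_eq_zero.mp this).resolve_left hc)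
  obtain ⟨x, a, b, rfl⟩ := eq_UT g h10
  refine ⟨x, a, ?_⟩
  have : a = b := by
    apply Units.ext
    simpa [mul_val] using had
  rw [this]

theorem T_comm_U {a b : Fˣ} {c : F} (hc : c ≠ 0) (h : T a b * U c = U c * T a b) : a = b := by
  have h2 := congrArg (fun k : GL (Fin 2) F => k.1 0 1) h
  simp only [mul_val, U_00, U_01, U_10, U_11, T_00, T_01, T_10, T_11, mul_one, mul_zero, one_mul,
    add_zero, zero_mul, zero_add] at h2
  apply Units.ext
  have : c * ((a : F) - b) = 0 := by linear_combination h2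
  exact sub_eq_zero.mp ((mul_eq_zero.mp this).resolve_left hc)

/-- A matrix given by its entries. -/
noncomputable def mk4 (a b c d : F) (h : a * d - b * c ≠ 0) : GL (Fin 2) F :=
  Matrix.GeneralLinearGroup.mkOfDetNeZero !![a, b; c, d] (by rwa [Matrix.det_fin_two_of])

theorem mk4_00 {a b c d : F} (h : a * d - b * c ≠ 0) : (mk4 a b c d h).1 0 0 = a := rfl
theorem mk4_01 {a b c d : F} (h : a * d - b * c ≠ 0) : (mk4 a b c d h).1 0 1 = b := rfl
theorem mk4_10 {a b c d : F} (h : a * d - b * c ≠ 0) : (mk4 a b c d h).1 1 0 = c := rfl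
theorem mk4_11 {a b c d : F} (h : a * d - b * c ≠ 0) : (mk4 a b c d h).1 1 1 = d := rfl

/-- Involutory matrices other than `1`, `-1` are conjugate to `T 1 (-1)`. -/
theorem conj_of_sq {g : GL (Fin 2) F} (h2 : (2 : F) ≠ 0) (hg : g * g = 1) (h1 : g ≠ 1)
    (h1' : g ≠ T (-1) (-1)) : ∃ h : GL (Fin 2) F, h * g * h⁻¹ = T 1 (-1) := by
  have e00 := congrArg (fun k : GL (Fin 2) F => k.1 0 0) hg
  have e01 := congrArg (fun k : GL (Fin 2) F => k.1 0 1) hg
  have e10 := congrArg (fun k : GL (Fin 2) F => k.1 1 0) hg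
  have e11 := congrArg (fun k : GL (Fin 2) F => k.1 1 1) hg
  simp only [mul_val, one_00, one_01, one_10, one_11] at e00 e01 e10 e11
  -- trace is zero
  have htr : g.1 0 0 + g.1 1 1 = 0 := by
    by_contra htr
    have hb : g.1 0 1 = 0 := by
      have : g.1 0 1 * (g.1 0 0 + g.1 1 1) = 0 := by linear_combination e01
      exact (mul_eq_zero.mp this).resolve_right htr
    have hc : g.1 1 0 = 0 := by
      have : g.1 1 0 * (g.1 0 0 + g.1 1 1) = 0 := by linear_combination e10
      exact (mul_eq_zero.mp this).resolve_right htr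
    have had : g.1 0 0 = g.1 1 1 := by
      have : (g.1 0 0 - g.1 1 1) * (g.1 0 0 + g.1 1 1) = 0 := by linear_combination e00 - e11
      exact sub_eq_zero.mp ((mul_eq_zero.mp this).resolve_right htr)
    have ha : (g.1 0 0 - 1) * (g.1 0 0 + 1) = 0 := by
      rw [hb] at e00
      linear_combination e00
    rcases mul_eq_zero.mp ha with h | h
    · apply h1
      have h' : g.1 0 0 = 1 := sub_eq_zero.mp h
      apply ext4 <;> simp [h', hb, hc, ← had]
    · apply h1'
      have h' : g.1 0 0 = -1 := eq_neg_of_add_eq_zero_left h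
      apply ext4 <;> simp [h', hb, hc, ← had]
  have hd : g.1 1 1 = -g.1 0 0 := by linear_combination htr
  have hdet : g.1 0 0 * g.1 0 0 + g.1 0 1 * g.1 1 0 = 1 := e00
  by_cases hb : g.1 0 1 = 0
  · by_cases hc : g.1 1 0 = 0
    · have ha : (g.1 0 0 - 1) * (g.1 0 0 + 1) = 0 := by
        rw [hb] at e00
        linear_combination e00
      rcases mul_eq_zero.mp ha with h | h
      · refine ⟨1, ?_⟩
        have h' : g.1 0 0 = 1 := sub_eq_zero.mp h
        rw [one_mul, inv_one, mul_one]
        apply ext4 <;> simp [h', hb, hc, hd]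
      · refine ⟨W, ?_⟩
        have h' : g.1 0 0 = -1 := eq_neg_of_add_eq_zero_left h
        have : g = T (-1) 1 := by apply ext4 <;> simp [h', hb, hc, hd]
        rw [this, W_T]
    · have hdet' : g.1 1 0 * -(1 + g.1 0 0) - (1 - g.1 0 0) * g.1 1 0 ≠ 0 := by
        have : g.1 1 0 * -(1 + g.1 0 0) - (1 - g.1 0 0) * g.1 1 0 = -(2 * g.1 1 0) := by ring
        rw [this]
        exact neg_ne_zero.mpr (mul_ne_zero h2 hc)
      refine ⟨mk4 (g.1 1 0) (1 - g.1 0 0) (g.1 1 0) (-(1 + g.1 0 0)) hdet', ?_⟩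
      rw [mul_inv_eq_iff_eq_mul]
      apply ext4 <;>
        simp only [mul_val, mk4_00, mk4_01, mk4_10, mk4_11, T_00, T_01, T_10, T_11,
          Units.val_one, Units.val_neg]
      · ring
      · rw [hd]; linear_combination hdet
      · ring
      · rw [hd]; linear_combination hdet
  · have hdet' : (1 + g.1 0 0) * g.1 0 1 - g.1 0 1 * (g.1 0 0 - 1) ≠ 0 := by
      have : (1 + g.1 0 0) * g.1 0 1 - g.1 0 1 * (g.1 0 0 - 1) = 2 * g.1 0 1 := by ring
      rw [this]
      exact mul_ne_zero h2 hb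
    refine ⟨mk4 (1 + g.1 0 0) (g.1 0 1) (g.1 0 0 - 1) (g.1 0 1) hdet', ?_⟩
    rw [mul_inv_eq_iff_eq_mul]
    apply ext4 <;>
      simp only [mul_val, mk4_00, mk4_01, mk4_10, mk4_11, T_00, T_01, T_10, T_11,
        Units.val_one, Units.val_neg]
    · linear_combination hdet
    · rw [hd]; ring
    · linear_combination hdet
    · rw [hd]; ring

end Cfsg.Agent.Classification.IdL3.MatTwo
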