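import Cfsg.Agent.Classification.IdL3.MatThree

/-!
Groups with an involution `t` whose centralizer is `GL (Fin 2) F / Z`, `Z` central of odd order,
together with an element `n` permuting cyclically the involutions of the diagonal four-group.

`A φ`, `B φ` (upper and lower root groups), `Ht φ` (diagonal torus), `Zc φ` (scalars), `tt φ` (the involution),
`cφ g φ` = `φ` followed by conjugation by `g`.
-/

set_option autoImplicit false
set_option linter.unusedSimpArgs false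

namespace Cfsg.Agent.Classification.IdL3.Setup

open Matrix
open scoped MatrixGroups
open Cfsg.Agent.Classification.IdL3.Mat
open Cfsg.Agent.Classification.IdL3.MatTwo
open Cfsg.Agent.Classification.IdL3.MatThree

variable {F : Type*} [Field F] {G : Type*} [Group G]

/-- subgroup of upper unipotent matrices. -/
def Usub (F : Type*) [Field F] : Subgroup (GL (Fin 2) F) where
  carrier := Set.range U
  mul_mem' := by
    rintro _ _ ⟨a, rfl⟩ ⟨b, rfl⟩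
    exact ⟨a + b, (U_mul a b).symm⟩
  one_mem' := ⟨0, U_zero⟩
  inv_mem' := by
    rintro _ ⟨a, rfl⟩
    exact ⟨-a, (U_inv a).symm⟩

/-- subgroup of lower unipotent matrices. -/
def Lsub (F : Type*) [Field F] : Subgroup (GL (Fin 2) F) where
  carrier := Set.range L
  mul_mem' := by
    rintro _ _ ⟨a, rfl⟩ ⟨b, rfl⟩
    exact ⟨a + b, (L_mul a b).symm⟩
  one_mem' := ⟨0, L_zero⟩
  inv_mem' := by
    rintro _ ⟨a, rfl⟩
    exact ⟨-a, (L_inv a).symm⟩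

/-- diagonal matrices. -/
def Tsub (F : Type*) [Field F] : Subgroup (GL (Fin 2) F) where
  carrier := {g | ∃ a b : Fˣ, g = T a b}
  mul_mem' := by
    rintro _ _ ⟨a, b, rfl⟩ ⟨a', b', rfl⟩
    exact ⟨_, _, T_mul a b a' b'⟩
  one_mem' := ⟨1, 1, T_one.symm⟩
  inv_mem' := by
    rintro _ ⟨a, b, rfl⟩
    exact ⟨_, _, T_inv a b⟩

/-- scalar matrices. -/
def Zsub (F : Type*) [Field F] : Subgroup (GL (Fin 2) F) where
  carrier := {g | ∃ a : Fˣ, g = T a a}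
  mul_mem' := by
    rintro _ _ ⟨a, rfl⟩ ⟨a', rfl⟩
    exact ⟨_, T_mul a a a' a'⟩
  one_mem' := ⟨1, T_one.symm⟩
  inv_mem' := by
    rintro _ ⟨a, rfl⟩
    exact ⟨_, T_inv a a⟩

/-- the central involution. -/
def tt (φ : GL (Fin 2) F →* G) : G := φ (T (-1) (-1))
/-- upper root group. -/
def A (φ : GL (Fin 2) F →* G) : Subgroup G := (Usub F).map φ
/-- lower root group. -/
def B (φ : GL (Fin 2) F →* G) : Subgroup G := (Lsub F).map φ
/-- diagonal torus. -/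
def Ht (φ : GL (Fin 2) F →* G) : Subgroup G := (Tsub F).map φ
/-- scalars. -/
def Zc (φ : GL (Fin 2) F →* G) : Subgroup G := (Zsub F).map φ
/-- conjugate homomorphism. -/
def cφ (g : G) (φ : GL (Fin 2) F →* G) : GL (Fin 2) F →* G := (MulAut.conj g).toMonoidHom.comp φ
/-- flipped homomorphism. -/
def fl (φ : GL (Fin 2) F →* G) : GL (Fin 2) F →* G := φ.comp (MulAut.conj W).toMonoidHom

theorem cφ_apply (g : G) (φ : GL (Fin 2) F →* G) (x : GL (Fin 2) F) :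
    cφ g φ x = g * φ x * g⁻¹ := rfl

theorem fl_apply (φ : GL (Fin 2) F →* G) (x : GL (Fin 2) F) : fl φ x = φ (W * x * W⁻¹) := rfl

theorem mem_A {φ : GL (Fin 2) F →* G} {x : G} : x ∈ A φ ↔ ∃ c, φ (U c) = x := by
  constructor
  · rintro ⟨_, ⟨c, rfl⟩, rfl⟩; exact ⟨c, rfl⟩
  · rintro ⟨c, rfl⟩; exact ⟨_, ⟨c, rfl⟩, rfl⟩

theorem mem_B {φ : GL (Fin 2) F →* G} {x : G} : x ∈ B φ ↔ ∃ c, φ (L c) = x := by
  constructor
  · rintro ⟨_, ⟨c, rfl⟩, rfl⟩; exact ⟨c, rfl⟩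
  · rintro ⟨c, rfl⟩; exact ⟨_, ⟨c, rfl⟩, rfl⟩

theorem mem_Ht {φ : GL (Fin 2) F →* G} {x : G} : x ∈ Ht φ ↔ ∃ a b, φ (T a b) = x := by
  constructor
  · rintro ⟨_, ⟨a, b, rfl⟩, rfl⟩; exact ⟨a, b, rfl⟩
  · rintro ⟨a, b, rfl⟩; exact ⟨_, ⟨a, b, rfl⟩, rfl⟩

theorem mem_Zc {φ : GL (Fin 2) F →* G} {x : G} : x ∈ Zc φ ↔ ∃ a, φ (T a a) = x := by
  constructor
  · rintro ⟨_, ⟨a, rfl⟩, rfl⟩; exact ⟨a, rfl⟩
  · rintro ⟨a, rfl⟩; exact ⟨_, ⟨a, rfl⟩, rfl⟩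

theorem mem_A_cφ {φ : GL (Fin 2) F →* G} {g x : G} : x ∈ A (cφ g φ) ↔ g⁻¹ * x * g ∈ A φ := by
  rw [mem_A, mem_A]
  refine exists_congr fun c => ?_
  rw [cφ_apply]
  constructor
  · intro h; rw [← h]; group
  · intro h; rw [h]; group

theorem mem_B_cφ {φ : GL (Fin 2) F →* G} {g x : G} : x ∈ B (cφ g φ) ↔ g⁻¹ * x * g ∈ B φ := by
  rw [mem_B, mem_B]
  refine exists_congr fun c => ?_
  rw [cφ_apply]
  constructor
  · intro h; rw [← h]; group
  · intro h; rw [h]; group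

theorem mem_Ht_cφ {φ : GL (Fin 2) F →* G} {g x : G} : x ∈ Ht (cφ g φ) ↔ g⁻¹ * x * g ∈ Ht φ := by
  rw [mem_Ht, mem_Ht]
  refine exists_congr fun a => exists_congr fun b => ?_
  rw [cφ_apply]
  constructor
  · intro h; rw [← h]; group
  · intro h; rw [h]; group

theorem mem_Zc_cφ {φ : GL (Fin 2) F →* G} {g x : G} : x ∈ Zc (cφ g φ) ↔ g⁻¹ * x * g ∈ Zc φ := by
  rw [mem_Zc, mem_Zc]
  refine exists_congr fun a => ?_
  rw [cφ_apply]
  constructor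
  · intro h; rw [← h]; group
  · intro h; rw [h]; group

theorem tt_cφ (g : G) (φ : GL (Fin 2) F →* G) : tt (cφ g φ) = g * tt φ * g⁻¹ := rfl

theorem A_fl (φ : GL (Fin 2) F →* G) : A (fl φ) = B φ := by
  ext x; rw [mem_A, mem_B]; simp only [fl_apply, W_U]

theorem B_fl (φ : GL (Fin 2) F →* G) : B (fl φ) = A φ := by
  ext x; rw [mem_A, mem_B]; simp only [fl_apply, W_L]

theorem Ht_fl (φ : GL (Fin 2) F →* G) : Ht (fl φ) = Ht φ := by
  ext x; rw [mem_Ht, mem_Ht]; simp only [fl_apply, W_T]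
  exact exists_comm

theorem tt_fl (φ : GL (Fin 2) F →* G) : tt (fl φ) = tt φ := by
  rw [tt, tt, fl_apply, W_T]

theorem Zc_fl (φ : GL (Fin 2) F →* G) : Zc (fl φ) = Zc φ := by
  ext x; rw [mem_Zc, mem_Zc]; simp only [fl_apply, W_T]

theorem cφ_fl (g : G) (φ : GL (Fin 2) F →* G) : cφ g (fl φ) = fl (cφ g φ) := rfl

theorem cφ_cφ (g h : G) (φ : GL (Fin 2) F →* G) : cφ g (cφ h φ) = cφ (g * h) φ := by
  apply MonoidHom.ext; intro x
  rw [cφ_apply, cφ_apply, cφ_apply]; group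

theorem cφ_one (φ : GL (Fin 2) F →* G) : cφ 1 φ = φ := by
  apply MonoidHom.ext; intro x
  rw [cφ_apply]; group

/-- `s` and `s'` are the two noncentral involutions of the diagonal four-group. -/
def Pair (φ : GL (Fin 2) F →* G) (s s' : G) : Prop :=
  (s = φ (T 1 (-1)) ∧ s' = φ (T (-1) 1)) ∨ (s = φ (T (-1) 1) ∧ s' = φ (T 1 (-1)))

/-- The basic hypothesis. -/
structure Hyp (φ : GL (Fin 2) F →* G) (n : G) : Prop where
  two : (2 : F) ≠ 0
  ker_c : ∀ g, φ g = 1 → g ∈ Subgroup.center (GL (Fin 2) F)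
  ker_o : Odd (Nat.card φ.ker)
  cent : ∀ g : G, g * tt φ = tt φ * g → ∃ x, φ x = g
  pair : Pair φ (n * tt φ * n⁻¹) (n⁻¹ * tt φ * n)

variable {φ : GL (Fin 2) F →* G} {n : G}

theorem Pair.symm {s s' : G} (h : Pair φ s s') : Pair φ s' s := by
  rcases h with ⟨h1, h2⟩ | ⟨h1, h2⟩
  · exact Or.inr ⟨h2, h1⟩
  · exact Or.inl ⟨h2, h1⟩

theorem Pair.mul {s s' : G} (h : Pair φ s s') : s * s' = tt φ := by
  rcases h with ⟨h1, h2⟩ | ⟨h1, h2⟩ <;> rw [h1, h2, ← map_mul, T_mul, tt] <;> simp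

theorem Pair.mul' {s s' : G} (h : Pair φ s s') : s * tt φ = s' := by
  rcases h with ⟨h1, h2⟩ | ⟨h1, h2⟩ <;> rw [h1, h2, tt, ← map_mul, T_mul] <;> simp

theorem Pair.mul'' {s s' : G} (h : Pair φ s s') : tt φ * s = s' := by
  rcases h with ⟨h1, h2⟩ | ⟨h1, h2⟩ <;> rw [h1, h2, tt, ← map_mul, T_mul] <;> simp

theorem Pair.sq {s s' : G} (h : Pair φ s s') : s * s = 1 := by
  rcases h with ⟨h1, h2⟩ | ⟨h1, h2⟩ <;> rw [h1, ← map_mul, T_mul] <;> simp [T_one]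

theorem Pair.conj {s s' : G} (h : Pair φ s s') (g : G) :
    Pair (cφ g φ) (g * s * g⁻¹) (g * s' * g⁻¹) := by
  rcases h with ⟨h1, h2⟩ | ⟨h1, h2⟩
  · exact Or.inl ⟨by rw [h1, cφ_apply], by rw [h2, cφ_apply]⟩
  · exact Or.inr ⟨by rw [h1, cφ_apply], by rw [h2, cφ_apply]⟩

theorem Pair.flip {s s' : G} (h : Pair φ s s') : Pair (fl φ) s s' := by
  rcases h with ⟨h1, h2⟩ | ⟨h1, h2⟩
  · exact Or.inr ⟨by rw [h1, fl_apply, W_T], by rw [h2, fl_apply, W_T]⟩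
  · exact Or.inl ⟨by rw [h1, fl_apply, W_T], by rw [h2, fl_apply, W_T]⟩

theorem tt_sq (φ : GL (Fin 2) F →* G) : tt φ * tt φ = 1 := by
  rw [tt, ← map_mul, T_mul]; simp [T_one]

/-- commuting elements lift to commuting elements. -/
theorem Hyp.comm_lift (hH : Hyp φ n) {g h : GL (Fin 2) F} (e : φ g * φ h = φ h * φ g) :
    g * h = h * g := by
  have hk : φ (g * h * g⁻¹ * h⁻¹) = 1 := by
    rw [map_mul, map_mul, map_mul, map_inv, map_inv, e]; group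
  obtain ⟨a, ha⟩ := scalar_of_center (hH.ker_c _ hk)
  have hdet : (g * h * g⁻¹ * h⁻¹).1.det = 1 := by
    have h1 : ∀ x : GL (Fin 2) F, x.1.det * (x⁻¹).1.det = 1 := by
      intro x
      rw [← Matrix.det_mul, ← Units.val_mul, mul_inv_cancel, Units.val_one, Matrix.det_one]
    rw [Units.val_mul, Units.val_mul, Units.val_mul, Matrix.det_mul, Matrix.det_mul,
      Matrix.det_mul]
    linear_combination (h.1.det * (h⁻¹).1.det) * h1 g + h1 h
  rw [ha, det_eq] at hdet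
  simp only [T_00, T_01, T_10, T_11, mul_zero, sub_zero] at hdet
  have ha2 : a * a = 1 := Units.ext hdet
  have hker : T a a ∈ φ.ker := by rw [← ha]; exact hk
  obtain ⟨m, hm⟩ := hH.ker_o
  have hpow : (T a a) ^ Nat.card φ.ker = 1 := by
    have h1 : (⟨T a a, hker⟩ : φ.ker) ^ Nat.card φ.ker = 1 := pow_card_eq_one'
    exact congrArg Subtype.val h1
  have hsq : T a a * T a a = 1 := by rw [T_mul, ha2, T_one]
  rw [hm, pow_succ, pow_mul, pow_two, hsq, one_pow, one_mul] at hpow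
  rw [hpow] at ha
  have h3 : g * h = g * h * g⁻¹ * h⁻¹ * (h * g) := by group
  rw [h3, ha, one_mul]

theorem Hyp.ker_T (hH : Hyp φ n) {g : GL (Fin 2) F} (h : φ g = 1) : ∃ a, g = T a a :=
  scalar_of_center (hH.ker_c _ h)

theorem Hyp.U_inj (hH : Hyp φ n) {c c' : F} (h : φ (U c) = φ (U c')) : c = c' := by
  have h1 : φ (U (c - c')) = 1 := by
    rw [sub_eq_add_neg, ← U_mul, ← U_inv, map_mul, map_inv, h, mul_inv_cancel]
  obtain ⟨a, ha⟩ := hH.ker_T h1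
  have h2 := congrArg (fun k : GL (Fin 2) F => k.1 0 1) ha
  simp only [U_01, T_01] at h2
  exact sub_eq_zero.mp h2

theorem Hyp.tt_ne (hH : Hyp φ n) : tt φ ≠ 1 := by
  intro h
  have hker : T (-1 : Fˣ) (-1) ∈ φ.ker := h
  obtain ⟨m, hm⟩ := hH.ker_o
  have hpow : (T (-1 : Fˣ) (-1)) ^ Nat.card φ.ker = 1 := by
    have h1 : (⟨T (-1) (-1), hker⟩ : φ.ker) ^ Nat.card φ.ker = 1 := pow_card_eq_one'
    exact congrArg Subtype.val h1
  have hsq : T (-1 : Fˣ) (-1) * T (-1) (-1) = 1 := by rw [T_mul]; simp [T_one]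
  rw [hm, pow_succ, pow_mul, pow_two, hsq, one_pow, one_mul] at hpow
  have h1 := congrArg (fun k : GL (Fin 2) F => k.1 0 0) hpow
  simp only [T_00, one_00, Units.val_neg, Units.val_one] at h1
  apply hH.two
  linear_combination -h1

theorem Hyp.inv (hH : Hyp φ n) : Hyp φ n⁻¹ where
  two := hH.two
  ker_c := hH.ker_c
  ker_o := hH.ker_o
  cent := hH.cent
  pair := by rw [inv_inv]; exact hH.pair.symm

theorem cφ_eq_one {g : G} {x : GL (Fin 2) F} : cφ g φ x = 1 ↔ φ x = 1 := by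
  rw [cφ_apply, mul_inv_eq_one, mul_eq_left]

theorem Hyp.flip (hH : Hyp φ n) : Hyp (fl φ) n where
  two := hH.two
  ker_c := by
    intro g hg
    have h1 := hH.ker_c _ hg
    have h2 := (Subgroup.center (GL (Fin 2) F)).normalCore_normal
    have h3 : (Subgroup.center (GL (Fin 2) F)).Normal := inferInstance
    have h4 := h3.conj_mem _ h1 W⁻¹
    have h5 : W⁻¹ * (W * g * W⁻¹) * W⁻¹⁻¹ = g := by group
    rwa [MulEquiv.toMonoidHom_eq_coe, MonoidHom.coe_coe, MulAut.conj_apply, h5] at h4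
  ker_o := by
    have : Nat.card (fl φ).ker = Nat.card φ.ker := by
      refine Nat.card_congr ⟨fun x => ⟨W * (x : GL (Fin 2) F) * W⁻¹, x.2⟩,
        fun x => ⟨W⁻¹ * (x : GL (Fin 2) F) * W, ?_⟩, ?_, ?_⟩
      · rw [MonoidHom.mem_ker, fl_apply]
        have h1 : ∀ w y : GL (Fin 2) F, w * (w⁻¹ * y * w) * w⁻¹ = y := by
          intro w y; group
        rw [h1]; exact x.2
      · intro x; apply Subtype.ext
        have h1 : ∀ w y : GL (Fin 2) F, w⁻¹ * (w * y * w⁻¹) * w = y := by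
          intro w y; group
        exact h1 _ _
      · intro x; apply Subtype.ext
        have h1 : ∀ w y : GL (Fin 2) F, w * (w⁻¹ * y * w) * w⁻¹ = y := by
          intro w y; group
        exact h1 _ _
    rw [this]; exact hH.ker_o
  cent := by
    intro g hg
    rw [tt_fl] at hg
    obtain ⟨x, hx⟩ := hH.cent g hg
    refine ⟨W⁻¹ * x * W, ?_⟩
    rw [fl_apply, ← hx]
    congr 1; group
  pair := by rw [tt_fl]; exact hH.pair.flip

/-- `n t₁ n⁻¹ = t₂`. -/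
theorem Hyp.n_t1 (hH : Hyp φ n) : n * (n * tt φ * n⁻¹) * n⁻¹ = n⁻¹ * tt φ * n := by
  have h1 := hH.pair.symm.mul'
  -- t1 = t2 * t
  have h2 : n * (n * tt φ * n⁻¹) * n⁻¹ = n * ((n⁻¹ * tt φ * n) * tt φ) * n⁻¹ := by rw [h1]
  have h3 : n * ((n⁻¹ * tt φ * n) * tt φ) * n⁻¹ = tt φ * (n * tt φ * n⁻¹) := by group
  rw [h2, h3, hH.pair.mul'']

theorem Hyp.n_t2 (hH : Hyp φ n) : n⁻¹ * (n⁻¹ * tt φ * n) * n = n * tt φ * n⁻¹ := by
  have := hH.inv.n_t1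
  rwa [inv_inv] at this

theorem Hyp.rot (hH : Hyp φ n) : Hyp (cφ n φ) n where
  two := hH.two
  ker_c := fun g hg => hH.ker_c g (cφ_eq_one.mp hg)
  ker_o := by
    have : (cφ n φ).ker = φ.ker := by
      ext x; rw [MonoidHom.mem_ker, MonoidHom.mem_ker, cφ_eq_one]
    rw [this]; exact hH.ker_o
  cent := by
    intro g hg
    rw [tt_cφ] at hg
    have h1 : (n⁻¹ * g * n) * tt φ = tt φ * (n⁻¹ * g * n) := by
      have h2 : n⁻¹ * g * n * tt φ = n⁻¹ * (g * (n * tt φ * n⁻¹)) * n := by group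
      rw [h2, hg]; group
    obtain ⟨x, hx⟩ := hH.cent _ h1
    exact ⟨x, by rw [cφ_apply, hx]; group⟩
  pair := by
    rw [tt_cφ]
    have h1 := hH.pair.symm.conj n
    have h2 : n * (n⁻¹ * tt φ * n) * n⁻¹ = tt φ := by group
    have h3 : n⁻¹ * (n * tt φ * n⁻¹) * n = tt φ := by group
    rw [h2] at h1
    rw [hH.n_t1, h3]
    have h4 : n * (n * tt φ * n⁻¹) * n⁻¹ = n⁻¹ * tt φ * n := hH.n_t1
    rw [h4] at h1
    exact h1.symm

theorem Hyp.rot' (hH : Hyp φ n) : Hyp (cφ n⁻¹ φ) n := by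
  have := hH.inv.rot.inv
  rwa [inv_inv] at this

/-- the centralizer of the four-group is the torus. -/
theorem Hyp.mem_Ht_of_comm (hH : Hyp φ n) {g : G} (h0 : g * tt φ = tt φ * g)
    (h1 : g * (n * tt φ * n⁻¹) = (n * tt φ * n⁻¹) * g) : g ∈ Ht φ := by
  obtain ⟨x, rfl⟩ := hH.cent g h0
  have hs : φ x * φ (T 1 (-1)) = φ (T 1 (-1)) * φ x := by
    rcases hH.pair with ⟨h, _⟩ | ⟨h, h'⟩
    · rwa [h] at h1
    · have h3 : φ (T 1 (-1)) = (n * tt φ * n⁻¹) * tt φ := by rw [hH.pair.mul', h']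
      rw [h3, ← mul_assoc, h1, mul_assoc, h0, ← mul_assoc]
  obtain ⟨a, b, hab⟩ := diag_of_comm hH.two (hH.comm_lift hs)
  exact mem_Ht.mpr ⟨a, b, by rw [hab]⟩

theorem Ht_comm {x y : G} (hx : x ∈ Ht φ) (hy : y ∈ Ht φ) : x * y = y * x := by
  obtain ⟨a, b, rfl⟩ := mem_Ht.mp hx
  obtain ⟨a', b', rfl⟩ := mem_Ht.mp hy
  rw [← map_mul, ← map_mul, T_mul, T_mul, mul_comm a, mul_comm b]

theorem tt_mem_Ht : tt φ ∈ Ht φ := mem_Ht.mpr ⟨_, _, rfl⟩

theorem Pair.mem {s s' : G} (h : Pair φ s s') : s ∈ Ht φ := by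
  rcases h with ⟨h1, _⟩ | ⟨h1, _⟩
  · exact mem_Ht.mpr ⟨_, _, h1.symm⟩
  · exact mem_Ht.mpr ⟨_, _, h1.symm⟩

theorem Hyp.conj_mem_Ht (hH : Hyp φ n) {x : G} (hx : x ∈ Ht φ) : n * x * n⁻¹ ∈ Ht φ := by
  refine hH.mem_Ht_of_comm ?_ ?_
  · have h1 := Ht_comm hx hH.pair.symm.mem
    have h2 : n * x * n⁻¹ * tt φ = n * (x * (n⁻¹ * tt φ * n)) * n⁻¹ := by group
    rw [h2, h1]; group
  · have h1 := Ht_comm hx (tt_mem_Ht (φ := φ))
    have h2 : n * x * n⁻¹ * (n * tt φ * n⁻¹) = n * (x * tt φ) * n⁻¹ := by group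
    rw [h2, h1]; group

theorem Hyp.conj_mem_Ht' (hH : Hyp φ n) {x : G} (hx : x ∈ Ht φ) : n⁻¹ * x * n ∈ Ht φ := by
  have := hH.inv.conj_mem_Ht hx
  rwa [inv_inv] at this

theorem Hyp.Ht_rot (hH : Hyp φ n) : Ht (cφ n φ) = Ht φ := by
  ext x
  rw [mem_Ht_cφ]
  constructor
  · intro h
    have := hH.conj_mem_Ht h
    have h2 : n * (n⁻¹ * x * n) * n⁻¹ = x := by group
    rwa [h2] at this
  · exact hH.conj_mem_Ht'

theorem Hyp.Ht_rot' (hH : Hyp φ n) : Ht (cφ n⁻¹ φ) = Ht φ := hH.inv.Ht_rot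

/-- `n³ ∈ H`. -/
theorem Hyp.n_cube (hH : Hyp φ n) : n * n * n ∈ Ht φ := by
  have e1 : n * (n * tt φ * n⁻¹) * n⁻¹ = n⁻¹ * tt φ * n := hH.n_t1
  have key : (n * n * n) * tt φ * (n * n * n)⁻¹ = tt φ := by
    have h : (n * n * n) * tt φ * (n * n * n)⁻¹ = n * (n * (n * tt φ * n⁻¹) * n⁻¹) * n⁻¹ := by
      group
    rw [h, e1]; group
  refine hH.mem_Ht_of_comm (mul_inv_eq_iff_eq_mul.mp key) (mul_inv_eq_iff_eq_mul.mp ?_)
  have h : (n * n * n) * (n * tt φ * n⁻¹) * (n * n * n)⁻¹ =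
      n * ((n * n * n) * tt φ * (n * n * n)⁻¹) * n⁻¹ := by group
  rw [h, key]

/-- torus normalises the root groups -/
theorem conj_A {h x : G} (hh : h ∈ Ht φ) (hx : x ∈ A φ) : h * x * h⁻¹ ∈ A φ := by
  obtain ⟨a, b, rfl⟩ := mem_Ht.mp hh
  obtain ⟨c, rfl⟩ := mem_A.mp hx
  rw [← map_inv, ← map_mul, ← map_mul, T_U]
  exact mem_A.mpr ⟨_, rfl⟩

theorem conj_B {h x : G} (hh : h ∈ Ht φ) (hx : x ∈ B φ) : h * x * h⁻¹ ∈ B φ := by
  rw [← A_fl] at hx ⊢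
  rw [← Ht_fl] at hh
  exact conj_A hh hx

theorem A_cφ_of_Ht {h : G} (hh : h ∈ Ht φ) : A (cφ h φ) = A φ := by
  ext x
  rw [mem_A_cφ]
  constructor
  · intro hx
    have := conj_A hh hx
    have h2 : h * (h⁻¹ * x * h) * h⁻¹ = x := by group
    rwa [h2] at this
  · intro hx
    have := conj_A ((Ht φ).inv_mem hh) hx
    rwa [inv_inv] at this

theorem B_cφ_of_Ht {h : G} (hh : h ∈ Ht φ) : B (cφ h φ) = B φ := by
  rw [← A_fl, ← A_fl, ← cφ_fl]
  apply A_cφ_of_Ht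
  rwa [Ht_fl]

theorem Ht_cφ_of_Ht {h : G} (hh : h ∈ Ht φ) : Ht (cφ h φ) = Ht φ := by
  ext x
  rw [mem_Ht_cφ]
  constructor
  · intro hx
    have := (Ht φ).mul_mem ((Ht φ).mul_mem hh hx) ((Ht φ).inv_mem hh)
    have h2 : h * (h⁻¹ * x * h) * h⁻¹ = x := by group
    rwa [h2] at this
  · intro hx
    exact (Ht φ).mul_mem ((Ht φ).mul_mem ((Ht φ).inv_mem hh) hx) hh

theorem A_cφ_w : A (cφ (φ W) φ) = B φ := by
  ext x
  rw [mem_A, mem_B]
  refine exists_congr fun c => ?_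
  rw [cφ_apply, ← map_inv, ← map_mul, ← map_mul, W_U]

theorem B_cφ_w : B (cφ (φ W) φ) = A φ := by
  ext x
  rw [mem_A, mem_B]
  refine exists_congr fun c => ?_
  rw [cφ_apply, ← map_inv, ← map_mul, ← map_mul, W_L]

/-- double rotation -/
theorem Hyp.A_rot_rot (hH : Hyp φ n) : A (cφ n (cφ n φ)) = A (cφ n⁻¹ φ) := by
  have h1 : cφ n (cφ n φ) = cφ n⁻¹ (cφ (n * n * n) φ) := by
    rw [cφ_cφ, cφ_cφ]; congr 1; group
  have h3 : ∀ (ψ ψ' : GL (Fin 2) F →* G), A ψ = A ψ' → ∀ g, A (cφ g ψ) = A (cφ g ψ') := by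
    intro ψ ψ' h g
    ext x; rw [mem_A_cφ, mem_A_cφ, h]
  rw [h1]
  exact h3 _ _ (A_cφ_of_Ht hH.n_cube) _

theorem Hyp.B_rot_rot (hH : Hyp φ n) : B (cφ n (cφ n φ)) = B (cφ n⁻¹ φ) := by
  rw [← A_fl, ← A_fl, ← cφ_fl, ← cφ_fl, ← cφ_fl]
  exact hH.flip.A_rot_rot

end Cfsg.Agent.Classification.IdL3.Setup
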