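import Cfsg.Agent.Classification.IdL3.Setup

/-!
Further facts on the root groups of `IdL3.Setup`: commuting relations, torus lemma in `G`,
centralizers of root elements in `C(t)`.
-/

set_option autoImplicit false
set_option linter.unusedSimpArgs false

namespace Cfsg.Agent.Classification.IdL3.SetupTwo

open Matrix
open scoped MatrixGroups
open Cfsg.Agent.Classification.IdL3.Mat
open Cfsg.Agent.Classification.IdL3.MatTwo
open Cfsg.Agent.Classification.IdL3.MatThree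
open Cfsg.Agent.Classification.IdL3.Setup

variable {F : Type*} [Field F] {G : Type*} [Group G]

/-- conjugate subgroup `g K g⁻¹`. -/
def cj (g : G) (K : Subgroup G) : Subgroup G := K.map (MulAut.conj g).toMonoidHom

theorem mem_cj {g x : G} {K : Subgroup G} : x ∈ cj g K ↔ g⁻¹ * x * g ∈ K := by
  constructor
  · rintro ⟨y, hy, rfl⟩
    have : g⁻¹ * ((MulAut.conj g).toMonoidHom y) * g = y := by
      show g⁻¹ * (g * y * g⁻¹) * g = y
      group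
    rwa [this]
  · intro h
    refine ⟨_, h, ?_⟩
    show g * (g⁻¹ * x * g) * g⁻¹ = x
    group

theorem cj_cj (g h : G) (K : Subgroup G) : cj g (cj h K) = cj (g * h) K := by
  ext x
  rw [mem_cj, mem_cj, mem_cj]
  have : h⁻¹ * (g⁻¹ * x * g) * h = (g * h)⁻¹ * x * (g * h) := by group
  rw [this]

theorem cj_one (K : Subgroup G) : cj 1 K = K := by
  ext x; rw [mem_cj]; simp

theorem cj_le_cj {g : G} {K M : Subgroup G} (h : K ≤ M) : cj g K ≤ cj g M := by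
  intro x hx; rw [mem_cj] at hx ⊢; exact h hx

theorem card_cj (g : G) (K : Subgroup G) : Nat.card (cj g K) = Nat.card K :=
  Subgroup.card_map_of_injective (MulAut.conj g).injective

theorem cj_eq_of_mem {g : G} {K : Subgroup G} (h : g ∈ K) : cj g K = K := by
  ext x
  rw [mem_cj]
  constructor
  · intro hx
    have := K.mul_mem (K.mul_mem h hx) (K.inv_mem h)
    have h2 : g * (g⁻¹ * x * g) * g⁻¹ = x := by group
    rwa [h2] at this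
  · intro hx
    exact K.mul_mem (K.mul_mem (K.inv_mem h) hx) h

theorem A_cφ (g : G) (φ : GL (Fin 2) F →* G) : A (cφ g φ) = cj g (A φ) := by
  ext x; rw [mem_A_cφ, mem_cj]

theorem B_cφ (g : G) (φ : GL (Fin 2) F →* G) : B (cφ g φ) = cj g (B φ) := by
  ext x; rw [mem_B_cφ, mem_cj]

theorem Ht_cφ (g : G) (φ : GL (Fin 2) F →* G) : Ht (cφ g φ) = cj g (Ht φ) := by
  ext x; rw [mem_Ht_cφ, mem_cj]

theorem Zc_cφ (g : G) (φ : GL (Fin 2) F →* G) : Zc (cφ g φ) = cj g (Zc φ) := by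
  ext x; rw [mem_Zc_cφ, mem_cj]

/-- commuting subgroups. -/
def Cm (X Y : Subgroup G) : Prop := ∀ x ∈ X, ∀ y ∈ Y, x * y = y * x

theorem Cm.symm {X Y : Subgroup G} (h : Cm X Y) : Cm Y X := fun x hx y hy => (h y hy x hx).symm

theorem Cm.cj {X Y : Subgroup G} (h : Cm X Y) (g : G) : Cm (cj g X) (cj g Y) := by
  intro x hx y hy
  rw [mem_cj] at hx hy
  have h1 := h _ hx _ hy
  have h2 : x * y = g * (g⁻¹ * x * g * (g⁻¹ * y * g)) * g⁻¹ := by group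
  rw [h2, h1]; group

variable {φ : GL (Fin 2) F →* G} {n : G}

/-- `w` -/
def wv (φ : GL (Fin 2) F →* G) : G := φ W

theorem wv_sq : wv φ * wv φ = 1 := by rw [wv, ← map_mul, W_mul_W, map_one]

theorem wv_inv : (wv φ)⁻¹ = wv φ := by rw [inv_eq_iff_mul_eq_one, wv_sq]

theorem cj_wv_A : cj (wv φ) (A φ) = B φ := by rw [← A_cφ]; exact A_cφ_w

theorem cj_wv_B : cj (wv φ) (B φ) = A φ := by rw [← B_cφ]; exact B_cφ_w

theorem cj_Ht_A {h : G} (hh : h ∈ Ht φ) : cj h (A φ) = A φ := by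
  rw [← A_cφ]; exact A_cφ_of_Ht hh

theorem cj_Ht_B {h : G} (hh : h ∈ Ht φ) : cj h (B φ) = B φ := by
  rw [← B_cφ]; exact B_cφ_of_Ht hh

theorem wv_tt : wv φ * tt φ * (wv φ)⁻¹ = tt φ := by
  rw [wv, tt, ← map_inv, ← map_mul, ← map_mul, W_T]

theorem wv_pair {s s' : G} (h : Pair φ s s') : wv φ * s * (wv φ)⁻¹ = s' := by
  rcases h with ⟨h1, h2⟩ | ⟨h1, h2⟩
  · rw [h1, h2, wv, ← map_inv, ← map_mul, ← map_mul, W_T]
  · rw [h1, h2, wv, ← map_inv, ← map_mul, ← map_mul, W_T]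

theorem w_rel (hH : Hyp φ n) :
    n * wv φ * n * (wv φ)⁻¹ ∈ Ht φ := by
  have e1 := wv_tt (φ := φ)
  have e2 := wv_pair hH.pair
  have e3 := wv_pair hH.pair.symm
  have e4 : n * (n * tt φ * n⁻¹) * n⁻¹ = n⁻¹ * tt φ * n := hH.n_t1
  have e1' : (wv φ)⁻¹ * tt φ * wv φ = tt φ := by
    have : (wv φ)⁻¹ * tt φ * wv φ = (wv φ)⁻¹ * (wv φ * tt φ * (wv φ)⁻¹) * wv φ := by rw [e1]
    rw [this]; group
  have e2' : (wv φ)⁻¹ * (n * tt φ * n⁻¹) * wv φ = n⁻¹ * tt φ * n := by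
    rw [← e3]; group
  refine hH.mem_Ht_of_comm (mul_inv_eq_iff_eq_mul.mp ?_) (mul_inv_eq_iff_eq_mul.mp ?_)
  · have h : n * wv φ * n * (wv φ)⁻¹ * tt φ * (n * wv φ * n * (wv φ)⁻¹)⁻¹ =
        n * (wv φ * (n * ((wv φ)⁻¹ * tt φ * wv φ) * n⁻¹) * (wv φ)⁻¹) * n⁻¹ := by group
    rw [h, e1', e2]; group
  · have h : n * wv φ * n * (wv φ)⁻¹ * (n * tt φ * n⁻¹) * (n * wv φ * n * (wv φ)⁻¹)⁻¹ =
        n * (wv φ * (n * ((wv φ)⁻¹ * (n * tt φ * n⁻¹) * wv φ) * n⁻¹) * (wv φ)⁻¹) * n⁻¹ := by group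
    have h3 : n * (n⁻¹ * tt φ * n) * n⁻¹ = tt φ := by group
    rw [h, e2', h3, e1]

/-- `w` exchanges `A₁` and `B₂`. -/
theorem cj_w_A1 (hH : Hyp φ n) :
    cj (wv φ) (A (cφ n φ)) = B (cφ n⁻¹ φ) := by
  have h1 : wv φ * n = n⁻¹ * ((n * wv φ * n * (wv φ)⁻¹) * wv φ) := by group
  rw [A_cφ, B_cφ, cj_cj, h1, ← cj_cj, ← cj_cj, cj_wv_A, cj_Ht_B (w_rel hH)]

theorem cj_w_B1 (hH : Hyp φ n) :
    cj (wv φ) (B (cφ n φ)) = A (cφ n⁻¹ φ) := by
  have h1 : wv φ * n = n⁻¹ * ((n * wv φ * n * (wv φ)⁻¹) * wv φ) := by group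
  rw [A_cφ, B_cφ, cj_cj, h1, ← cj_cj, ← cj_cj, cj_wv_B, cj_Ht_A (w_rel hH)]

theorem cj_w_A2 (hH : Hyp φ n) :
    cj (wv φ) (A (cφ n⁻¹ φ)) = B (cφ n φ) := by
  have := (cj_w_A1 hH.inv)
  rwa [inv_inv] at this

theorem cj_w_B2 (hH : Hyp φ n) :
    cj (wv φ) (B (cφ n⁻¹ φ)) = A (cφ n φ) := by
  have := (cj_w_B1 hH.inv)
  rwa [inv_inv] at this

theorem cj_n_A : cj n (A φ) = A (cφ n φ) := (A_cφ n φ).symm
theorem cj_n_B : cj n (B φ) = B (cφ n φ) := (B_cφ n φ).symm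
theorem cj_n_A2 : cj n (A (cφ n⁻¹ φ)) = A φ := by rw [A_cφ, cj_cj, mul_inv_cancel, cj_one]
theorem cj_n_B2 : cj n (B (cφ n⁻¹ φ)) = B φ := by rw [B_cφ, cj_cj, mul_inv_cancel, cj_one]

theorem cj_n_A1 (hH : Hyp φ n) :
    cj n (A (cφ n φ)) = A (cφ n⁻¹ φ) := by
  rw [← A_cφ]; exact hH.A_rot_rot

theorem cj_n_B1 (hH : Hyp φ n) :
    cj n (B (cφ n φ)) = B (cφ n⁻¹ φ) := by
  rw [← B_cφ]; exact hH.B_rot_rot

/-- The three relations. -/
def Ra (φ : GL (Fin 2) F →* G) (n : G) : Prop := Cm (A φ) (A (cφ n φ))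
/-- second relation -/
def Rb (φ : GL (Fin 2) F →* G) (n : G) : Prop := Cm (A φ) (B (cφ n φ))

section rel
variable (hH : Hyp φ n)
include hH

theorem Ra.rot (h : Ra φ n) : Ra (cφ n φ) n := by
  have := Cm.cj h n
  rwa [(cj_n_A1 hH), cj_n_A, ← hH.A_rot_rot] at this

theorem Ra.inv (h : Ra φ n) : Ra φ n⁻¹ := by
  have := (Cm.cj (Ra.rot hH h) n).symm
  rw [hH.A_rot_rot, cj_n_A2, (cj_n_A1 hH)] at this
  exact this

theorem Ra.wB (h : Ra φ n) : Cm (B φ) (B (cφ n⁻¹ φ)) := by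
  have := Cm.cj h (wv φ)
  rwa [cj_wv_A, (cj_w_A1 hH)] at this

theorem Ra.wB' (h : Ra φ n) : Cm (B φ) (B (cφ n φ)) := by
  have := Cm.cj (Ra.wB hH h) n
  rw [cj_n_B, cj_n_B2] at this
  exact this.symm

theorem Ra.flip (h : Ra φ n) : Ra (fl φ) n := by
  unfold Ra
  rw [cφ_fl, A_fl, A_fl]
  exact Ra.wB' hH h

theorem Rb.rot (h : Rb φ n) : Rb (cφ n φ) n := by
  have := Cm.cj h n
  rwa [(cj_n_B1 hH), cj_n_A, ← hH.B_rot_rot] at this

end rel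

theorem Pair.inverts_A {s s' x : G} (h : Pair φ s s') (hx : x ∈ A φ) : s * x * s⁻¹ = x⁻¹ := by
  obtain ⟨c, rfl⟩ := mem_A.mp hx
  rcases h with ⟨h1, _⟩ | ⟨h1, _⟩ <;>
    rw [h1, ← map_inv, ← map_inv, ← map_mul, ← map_mul, T_U, U_inv] <;> simp

theorem Pair.inverts_B {s s' x : G} (h : Pair φ s s') (hx : x ∈ B φ) : s * x * s⁻¹ = x⁻¹ := by
  obtain ⟨c, rfl⟩ := mem_B.mp hx
  rcases h with ⟨h1, _⟩ | ⟨h1, _⟩ <;>
    rw [h1, ← map_inv, ← map_inv, ← map_mul, ← map_mul, T_L, L_inv] <;> simp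

theorem tt_comm (g : GL (Fin 2) F) : φ g * tt φ = tt φ * φ g := by
  rw [tt, ← map_mul, ← map_mul, T_self_comm]

theorem tt_comm_A {x : G} (hx : x ∈ A φ) : x * tt φ = tt φ * x := by
  obtain ⟨c, rfl⟩ := mem_A.mp hx
  exact tt_comm _

theorem tt_comm_B {x : G} (hx : x ∈ B φ) : x * tt φ = tt φ * x := by
  obtain ⟨c, rfl⟩ := mem_B.mp hx
  exact tt_comm _

theorem A_comm {x y : G} (hx : x ∈ A φ) (hy : y ∈ A φ) : x * y = y * x := by
  obtain ⟨c, rfl⟩ := mem_A.mp hx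
  obtain ⟨d, rfl⟩ := mem_A.mp hy
  rw [← map_mul, ← map_mul, U_mul, U_mul, add_comm]

theorem A_pow {p : ℕ} [CharP F p] {x : G} (hx : x ∈ A φ) : x ^ p = 1 := by
  obtain ⟨c, rfl⟩ := mem_A.mp hx
  have : ∀ m : ℕ, U c ^ m = U (m * c) := by
    intro m
    induction m with
    | zero => simp [U_zero]
    | succ m ih => rw [pow_succ, ih, U_mul]; congr 1; push_cast; ring
  rw [← map_pow, this, CharP.cast_eq_zero, zero_mul, U_zero, map_one]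

/-- the torus is transitive on nontrivial elements of the root groups. -/
theorem exists_conj {x y : G} (hx : x ∈ A φ) (hx1 : x ≠ 1) (hy : y ∈ A φ) (hy1 : y ≠ 1) :
    ∃ h ∈ Ht φ, h * x * h⁻¹ = y := by
  obtain ⟨c, rfl⟩ := mem_A.mp hx
  obtain ⟨d, rfl⟩ := mem_A.mp hy
  have hc : c ≠ 0 := by rintro rfl; exact hx1 (by rw [U_zero, map_one])
  have hd : d ≠ 0 := by rintro rfl; exact hy1 (by rw [U_zero, map_one])
  refine ⟨φ (T (Units.mk0 (d / c) (div_ne_zero hd hc)) 1), mem_Ht.mpr ⟨_, _, rfl⟩, ?_⟩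
  rw [← map_inv, ← map_mul, ← map_mul, T_U]
  simp [hc]

theorem A_le_of_mem {K : Subgroup G} (hK : ∀ h ∈ Ht φ, ∀ k ∈ K, h * k * h⁻¹ ∈ K) {x : G}
    (hx : x ∈ A φ) (hxK : x ∈ K) (hx1 : x ≠ 1) : A φ ≤ K := by
  intro y hy
  by_cases hy1 : y = 1
  · rw [hy1]; exact K.one_mem
  · obtain ⟨h, hh, rfl⟩ := exists_conj hx hx1 hy hy1
    exact hK h hh x hxK

theorem B_le_of_mem {K : Subgroup G} (hK : ∀ h ∈ Ht φ, ∀ k ∈ K, h * k * h⁻¹ ∈ K) {x : G}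
    (hx : x ∈ B φ) (hxK : x ∈ K) (hx1 : x ≠ 1) : B φ ≤ K := by
  rw [← A_fl] at hx ⊢
  rw [← Ht_fl] at hK
  exact A_le_of_mem hK hx hxK hx1

theorem card_A (hH : Hyp φ n) :
    Nat.card (A φ) = Nat.card F := by
  refine (Nat.card_congr (Equiv.ofBijective (fun c : F => (⟨φ (U c), mem_A.mpr ⟨c, rfl⟩⟩ : A φ))
    ⟨?_, ?_⟩)).symm
  · intro c d h
    exact hH.U_inj (congrArg Subtype.val h)
  · rintro ⟨x, hx⟩
    obtain ⟨c, rfl⟩ := mem_A.mp hx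
    exact ⟨c, rfl⟩

theorem ker_coprime (hH : Hyp φ n) {p : ℕ} [hp : Fact p.Prime] [CharP F p] [Finite F] :
    ¬ p ∣ Nat.card φ.ker := by
  intro h
  obtain ⟨⟨g, hg⟩, hgo⟩ := exists_prime_orderOf_dvd_card' p h
  obtain ⟨a, rfl⟩ := hH.ker_T hg
  have h1 : (T a a) ^ p = 1 := by
    have := pow_orderOf_eq_one (⟨T a a, hg⟩ : φ.ker)
    rw [hgo] at this
    exact congrArg Subtype.val this
  have h3 : (T a a) ^ p ^ 1 = 1 := by rwa [pow_one]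
  obtain ⟨h4, _⟩ := unip_entries h3
  simp only [T_00, T_11] at h4
  have h5 : (a : F) = 1 := by
    have : (2 : F) * ((a : F) - 1) = 0 := by linear_combination h4
    exact sub_eq_zero.mp ((mul_eq_zero.mp this).resolve_left hH.two)
  have h6 : (⟨T a a, hg⟩ : φ.ker) = 1 := by
    apply Subtype.ext
    show T a a = 1
    rw [Units.ext h5 (v := 1), T_one]
  rw [h6, orderOf_one] at hgo
  exact hp.out.one_lt.ne hgo

/-- `p`-elements lift. -/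
theorem exists_lift (hH : Hyp φ n) {p : ℕ} [hp : Fact p.Prime] [CharP F p] [Finite F]
    {m : G} {k : ℕ} (hm : m ^ p ^ k = 1) (hm1 : m ≠ 1) (hc : m * tt φ = tt φ * m) :
    ∃ g : GL (Fin 2) F, g ≠ 1 ∧ g ^ p ^ k = 1 ∧ ∃ j : ℕ, φ g = m ^ j ∧ ∃ i : ℕ, (φ g) ^ i = m := by
  obtain ⟨g, rfl⟩ := hH.cent m hc
  have hN := ker_coprime hH (p := p)
  have hcop : Nat.Coprime (Nat.card φ.ker) (p ^ k) :=
    (Nat.Coprime.symm ((Nat.Prime.coprime_iff_not_dvd hp.out).mpr hN)).pow_right k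
  have hpk : 0 < p ^ k := pow_pos hp.out.pos k
  have hpk1 : 1 < p ^ k := by
    refine lt_of_le_of_ne hpk (fun h => hm1 ?_)
    rw [← h, pow_one] at hm; exact hm
  -- find `i` with `N * i ≡ 1 mod p ^ k`
  obtain ⟨i, _, hi⟩ := Nat.exists_mul_mod_eq_one_of_coprime hcop hpk1
  have hpow : (φ g ^ Nat.card φ.ker) ^ i = φ g := by
    rw [← pow_mul]
    have h1 : φ g ^ (Nat.card φ.ker * i) = φ g ^ ((Nat.card φ.ker * i) % (p ^ k)) := by
      conv_lhs => rw [← Nat.div_add_mod (Nat.card φ.ker * i) (p ^ k), pow_add, pow_mul, hm,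
        one_pow, one_mul]
    rw [h1, hi, pow_one]
  refine ⟨g ^ Nat.card φ.ker, ?_, ?_, Nat.card φ.ker, map_pow _ _ _, i, ?_⟩
  · intro h
    have h1 : φ g ^ Nat.card φ.ker = 1 := by rw [← map_pow, h, map_one]
    rw [h1, one_pow] at hpow
    exact hm1 hpow.symm
  · have hker : g ^ p ^ k ∈ φ.ker := by rw [MonoidHom.mem_ker, map_pow, hm]
    rw [← pow_mul, mul_comm, pow_mul]
    have h1 : (⟨g ^ p ^ k, hker⟩ : φ.ker) ^ Nat.card φ.ker = 1 := pow_card_eq_one'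
    exact congrArg Subtype.val h1
  · rw [map_pow]; exact hpow

/-- Torus lemma in `G`. -/
theorem torus_G (hH : Hyp φ n) {p : ℕ} [hp : Fact p.Prime] [CharP F p] [Finite F]
    (M : Subgroup G) (hM : ∀ m ∈ M, m * tt φ = tt φ * m)
    (hMH : ∀ h ∈ Ht φ, ∀ m ∈ M, h * m * h⁻¹ ∈ M) {m : G} (hmM : m ∈ M) (hm1 : m ≠ 1) {k : ℕ}
    (hm : m ^ p ^ k = 1) : A φ ≤ M ∨ B φ ≤ M := by
  obtain ⟨g, hg1, hgp, j, hj, _⟩ := exists_lift hH hm hm1 (hM m hmM)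
  have hgM : g ∈ M.comap φ := by
    rw [Subgroup.mem_comap, hj]; exact M.pow_mem hmM j
  rcases torus hH.two (M.comap φ) (by
      intro a b x hx
      rw [Subgroup.mem_comap] at hx ⊢
      rw [map_mul, map_mul, map_inv]
      exact hMH _ (mem_Ht.mpr ⟨a, b, rfl⟩) _ hx) hgM hg1 hgp with h | h
  · left
    intro x hx
    obtain ⟨c, rfl⟩ := mem_A.mp hx
    exact h c
  · right
    intro x hx
    obtain ⟨c, rfl⟩ := mem_B.mp hx
    exact h c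

/-- a subgroup of `C(t)` containing `A φ` but not `t` lies in the Borel subgroup. -/
theorem borel_of_not_mem (hH : Hyp φ n) (M : Subgroup G) (hM : ∀ m ∈ M, m * tt φ = tt φ * m)
    (ht : tt φ ∉ M) (hA : A φ ≤ M) {m : G} (hm : m ∈ M) : ∃ x ∈ A φ, ∃ h ∈ Ht φ, m = x * h := by
  obtain ⟨g, rfl⟩ := hH.cent m (hM m hm)
  have h10 := upper_of_not_mem (M.comap φ) ht (fun c => hA (mem_A.mpr ⟨c, rfl⟩)) hm
  obtain ⟨x, a, b, rfl⟩ := eq_UT g h10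
  exact ⟨_, mem_A.mpr ⟨x, rfl⟩, _, mem_Ht.mpr ⟨a, b, rfl⟩, map_mul _ _ _⟩

/-- centralizer of a root element in `C(t)`. -/
theorem mem_AZ (hH : Hyp φ n) {x g : G} (hx : x ∈ A φ) (hx1 : x ≠ 1) (h0 : g * tt φ = tt φ * g)
    (h1 : g * x = x * g) : ∃ y ∈ A φ, ∃ z ∈ Zc φ, g = y * z := by
  obtain ⟨c, rfl⟩ := mem_A.mp hx
  have hc : c ≠ 0 := by rintro rfl; exact hx1 (by rw [U_zero, map_one])
  obtain ⟨g, rfl⟩ := hH.cent g h0
  obtain ⟨y, a, rfl⟩ := of_comm_U hc (hH.comm_lift h1)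
  exact ⟨_, mem_A.mpr ⟨y, rfl⟩, _, mem_Zc.mpr ⟨a, rfl⟩, map_mul _ _ _⟩

theorem Ht_comm_A (hH : Hyp φ n) {x h : G} (hx : x ∈ A φ) (hx1 : x ≠ 1) (hh : h ∈ Ht φ)
    (h1 : h * x = x * h) : h ∈ Zc φ := by
  obtain ⟨c, rfl⟩ := mem_A.mp hx
  have hc : c ≠ 0 := by rintro rfl; exact hx1 (by rw [U_zero, map_one])
  obtain ⟨a, b, rfl⟩ := mem_Ht.mp hh
  have := T_comm_U hc (hH.comm_lift h1)
  rw [this]
  exact mem_Zc.mpr ⟨b, rfl⟩

theorem Zc_comm {z : G} (hz : z ∈ Zc φ) (g : GL (Fin 2) F) : z * φ g = φ g * z := by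
  obtain ⟨a, rfl⟩ := mem_Zc.mp hz
  rw [← map_mul, ← map_mul, T_self_comm]

theorem Zc_le_Ht : Zc φ ≤ Ht φ := by
  intro z hz
  obtain ⟨a, rfl⟩ := mem_Zc.mp hz
  exact mem_Ht.mpr ⟨a, a, rfl⟩

theorem tt_mem_Zc : tt φ ∈ Zc φ := mem_Zc.mpr ⟨_, rfl⟩

/-- `A ∩ H = 1`. -/
theorem A_inf_Ht (hH : Hyp φ n) {x : G} (hx : x ∈ A φ) (hx' : x ∈ Ht φ) : x = 1 := by
  obtain ⟨c, rfl⟩ := mem_A.mp hx
  obtain ⟨a, b, hab⟩ := mem_Ht.mp hx'
  have h1 : φ (T a b * (U c)⁻¹) = 1 := by rw [map_mul, hab, map_inv, mul_inv_cancel]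
  obtain ⟨d, hd⟩ := hH.ker_T h1
  have h2 : T a b = T d d * U c := by rw [← hd]; group
  have h3 := congrArg (fun k : GL (Fin 2) F => k.1 0 1) h2
  simp only [mul_val, T_00, T_01, U_01, U_11, zero_mul, add_zero] at h3
  have h4 : c = 0 := by
    have h5 : (d : F) ≠ 0 := d.ne_zero
    exact (mul_eq_zero.mp h3.symm).resolve_left h5
  rw [h4, U_zero, map_one]

theorem Ht_pow [Finite F] {h : G} (hh : h ∈ Ht φ) : h ^ (Nat.card F - 1) = 1 := by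
  obtain ⟨a, b, rfl⟩ := mem_Ht.mp hh
  have h1 : ∀ u : Fˣ, u ^ (Nat.card F - 1) = 1 := by
    intro u
    have := pow_card_eq_one' (x := u)
    rwa [Nat.card_units] at this
  have h2 : ∀ m : ℕ, T a b ^ m = T (a ^ m) (b ^ m) := by
    intro m
    induction m with
    | zero => simp [T_one]
    | succ m ih => rw [pow_succ, ih, T_mul, pow_succ, pow_succ]
  rw [← map_pow, h2, h1, h1, T_one, map_one]

theorem Ht_pelt [Finite F] {p : ℕ} [hp : Fact p.Prime] [CharP F p] {h : G} (hh : h ∈ Ht φ)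
    {k : ℕ} (hk : h ^ p ^ k = 1) : h = 1 := by
  have h1 := Ht_pow hh
  have hq : p ∣ Nat.card F := by
    have : Fintype F := Fintype.ofFinite F
    obtain ⟨m, _, hm⟩ := FiniteField.card F p
    rw [Nat.card_eq_fintype_card, hm]
    exact dvd_pow_self p m.ne_zero
  have hpos : 0 < Nat.card F := Nat.card_pos
  have hcop : Nat.Coprime (p ^ k) (Nat.card F - 1) := by
    apply Nat.Coprime.pow_left
    rw [Nat.Prime.coprime_iff_not_dvd hp.out]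
    intro h2
    have h3 := Nat.dvd_sub hq h2
    have h4 : Nat.card F - (Nat.card F - 1) = 1 := by omega
    rw [h4] at h3
    exact hp.out.one_lt.ne' (Nat.dvd_one.mp h3)
  have h3 : orderOf h ∣ Nat.gcd (p ^ k) (Nat.card F - 1) :=
    Nat.dvd_gcd (orderOf_dvd_of_pow_eq_one hk) (orderOf_dvd_of_pow_eq_one h1)
  rw [hcop] at h3
  exact orderOf_eq_one_iff.mp (Nat.dvd_one.mp h3)

theorem mul_pow_mem {y h : G} (hy : y ∈ A φ) (hh : h ∈ Ht φ) (m : ℕ) :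
    ∃ y' ∈ A φ, (y * h) ^ m = y' * h ^ m := by
  induction m with
  | zero => exact ⟨1, (A φ).one_mem, by simp⟩
  | succ m ih =>
    obtain ⟨y', hy', e⟩ := ih
    refine ⟨y' * (h ^ m * y * (h ^ m)⁻¹), (A φ).mul_mem hy' (conj_A ((Ht φ).pow_mem hh m) hy), ?_⟩
    rw [pow_succ, e, pow_succ]; group

/-- `p`-elements of the Borel subgroup lie in the root group. -/
theorem borel_pelt (hH : Hyp φ n) [Finite F] {p : ℕ} [hp : Fact p.Prime] [CharP F p] {y h : G}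
    (hy : y ∈ A φ) (hh : h ∈ Ht φ) {k : ℕ} (hk : (y * h) ^ p ^ k = 1) : h = 1 := by
  obtain ⟨y', hy', e⟩ := mul_pow_mem hy hh (p ^ k)
  rw [hk] at e
  have h1 : h ^ p ^ k = y'⁻¹ := by rw [eq_comm, inv_eq_iff_mul_eq_one]; exact e.symm
  have h2 : h ^ p ^ k = 1 := by
    refine A_inf_Ht hH (n := n) ?_ ((Ht φ).pow_mem hh _)
    rw [h1]; exact (A φ).inv_mem hy'
  exact Ht_pelt hh h2

end Cfsg.Agent.Classification.IdL3.SetupTwo
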